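import Cfsg.Agent.Lib.Solv.Component
import Cfsg.Agent.Lib.Solv.Zipper

/-!
Automorphisms of components, and elements spread over the conjugates of a component.
-/

set_option autoImplicit false
set_option linter.style.haveILetI false

open scoped commutatorElement

namespace Cfsg.Agent.Solv.OffGain

variable {X : Type*} [Group X]

/-- `z` lies in the centre of `K`. -/
def Cz (K : Subgroup X) (z : X) : Prop := z ∈ K ∧ ∀ y ∈ K, y * z = z * y

theorem Cz.mul {K : Subgroup X} {y z : X} (hy : Cz K y) (hz : Cz K z) : Cz K (y * z) :=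
  ⟨mul_mem hy.1 hz.1, fun w hw => ((show Commute w y from hy.2 w hw).mul_right (hz.2 w hw)).eq⟩

theorem Cz.inv {K : Subgroup X} {z : X} (hz : Cz K z) : Cz K z⁻¹ :=
  ⟨inv_mem hz.1, fun w hw => ((show Commute w z from hz.2 w hw).inv_right).eq⟩

theorem conj_mem_iff {K : Subgroup X} {a : X} (ha : a ∈ Subgroup.normalizer (K : Set X)) {y : X}
    (hy : y ∈ K) : a * y * a⁻¹ ∈ K := (Subgroup.mem_normalizer_iff.1 ha y).1 hy

/-- Two elements which induce the same action modulo the centre of a perfect subgroup agree on it. -/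
theorem agree_of_agree_mod_center {K : Subgroup X} (hK : Group.IsPerfect K) {a b : X}
    (ha : a ∈ Subgroup.normalizer (K : Set X)) (hb : b ∈ Subgroup.normalizer (K : Set X))
    (h : ∀ y ∈ K, Cz K ((b * y * b⁻¹)⁻¹ * (a * y * a⁻¹))) :
    ∀ y ∈ K, a * y * a⁻¹ = b * y * b⁻¹ := by
  let f : K →* Subgroup.center K :=
    { toFun := fun y => ⟨⟨(b * y * b⁻¹)⁻¹ * (a * y * a⁻¹), (h y y.2).1⟩,
        Subgroup.mem_center_iff.2 fun w => Subtype.ext ((h y y.2).2 w w.2)⟩
      map_one' := Subtype.ext (Subtype.ext (by simp))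
      map_mul' := fun x y => by
        refine Subtype.ext (Subtype.ext ?_)
        show (b * (x * y : X) * b⁻¹)⁻¹ * (a * (x * y : X) * a⁻¹) =
          ((b * x * b⁻¹)⁻¹ * (a * x * a⁻¹)) * ((b * y * b⁻¹)⁻¹ * (a * y * a⁻¹))
        have hc := (h x x.2).2 _ (inv_mem (conj_mem_iff hb y.2))
        calc (b * (x * y : X) * b⁻¹)⁻¹ * (a * (x * y : X) * a⁻¹)
            = (b * y * b⁻¹)⁻¹ * ((b * x * b⁻¹)⁻¹ * (a * x * a⁻¹)) * (a * y * a⁻¹) := by group
          _ = ((b * x * b⁻¹)⁻¹ * (a * x * a⁻¹)) * (b * y * b⁻¹)⁻¹ * (a * y * a⁻¹) := by rw [hc]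
          _ = _ := by group }
  have hker : f.ker = ⊤ := by
    refine top_le_iff.1 ?_
    rw [← hK.commutator_eq_top, commutator_def, Subgroup.commutator_le]
    intro x _ y _
    rw [MonoidHom.mem_ker, map_commutatorElement, commutatorElement_eq_one_iff_mul_comm]
    exact Subtype.ext (Subgroup.mem_center_iff.1 (f y).2 (f x).1)
  intro y hy
  have h1 : f ⟨y, hy⟩ = 1 := MonoidHom.mem_ker.1 (hker ▸ Subgroup.mem_top _)
  have h2 : (b * y * b⁻¹)⁻¹ * (a * y * a⁻¹) = 1 := congrArg (fun u : Subgroup.center K => ((u : K) : X)) h1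
  exact (inv_mul_eq_one.1 h2).symm

theorem odd_mul [Finite X] {x y : X} (h : Commute x y) (hx : Odd (orderOf x))
    (hy : Odd (orderOf y)) : Odd (orderOf (x * y)) :=
  (hx.mul hy).of_dvd_nat h.orderOf_mul_dvd_mul_orderOf

theorem odd_inv {x : X} (hx : Odd (orderOf x)) : Odd (orderOf x⁻¹) := by rwa [orderOf_inv]

theorem odd_conj {x : X} (g : X) (hx : Odd (orderOf x)) : Odd (orderOf (g * x * g⁻¹)) := by
  rw [← MulAut.conj_apply, MulEquiv.orderOf_eq]
  exact hx

/-- An involution acting inwardly fixes a lift of an element it fixes modulo the centre. -/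
theorem fixed_lift [Finite X] {K : Subgroup X} {a k : X} (ha2 : a * a = 1) (hk : k ∈ K)
    (hak : ∀ y ∈ K, a * y * a⁻¹ = k * y * k⁻¹) {r : X} (hr : r ∈ K) (hodd : Odd (orderOf r))
    (h : Cz K (r⁻¹ * (a * r * a⁻¹))) : a * r * a⁻¹ = r := by
  set z := r⁻¹ * (a * r * a⁻¹) with hz
  have haz : a * z * a⁻¹ = z := by
    rw [hak z h.1, h.2 k hk, mul_inv_cancel_right]
  have h1 : a * r * a⁻¹ = r * z := by rw [hz, mul_inv_cancel_left]
  have h2 : a * (r * z) * a⁻¹ = r * z * z := by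
    rw [show a * (r * z) * a⁻¹ = (a * r * a⁻¹) * (a * z * a⁻¹) by group, haz, h1]
  have h3 : a * (r * z) * a⁻¹ = r := by
    rw [← h1, show a * (a * r * a⁻¹) * a⁻¹ = (a * a) * r * (a * a)⁻¹ by group, ha2]
    group
  have hzz : z ^ 2 = 1 := by
    rw [h3, mul_assoc] at h2
    rw [pow_two]
    exact (mul_eq_left (a := r)).1 h2.symm
  have hcom : Commute r⁻¹ (a * r * a⁻¹) := by
    rw [h1]
    exact ((Commute.refl r).mul_right (h.2 r hr)).inv_left
  have hzodd : Odd (orderOf z) := odd_mul hcom (odd_inv hodd) (odd_conj a hodd)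
  have hz1 : z = 1 := by
    have hd : orderOf z ∣ 2 := orderOf_dvd_of_pow_eq_one hzz
    rcases (Nat.dvd_prime Nat.prime_two).1 hd with e | e
    · exact orderOf_eq_one_iff.1 e
    · rw [e] at hzodd
      exact absurd hzodd (by decide)
  rw [h1, hz1, mul_one]

/-- A lift inverted by an involution, of the square of an element it inverts modulo the centre. -/
theorem inverted_lift [Finite X] {K : Subgroup X} {a : X} (ha2 : a * a = 1)
    (haN : a ∈ Subgroup.normalizer (K : Set X)) {r : X} (hr : r ∈ K) (hodd : Odd (orderOf r))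
    (h : Cz K (r * (a * r * a⁻¹))) :
    a * (r * (a * r * a⁻¹)⁻¹) * a⁻¹ = (r * (a * r * a⁻¹)⁻¹)⁻¹ ∧
      r * (a * r * a⁻¹)⁻¹ ∈ K ∧ Odd (orderOf (r * (a * r * a⁻¹)⁻¹)) ∧
      Cz K ((r * r)⁻¹ * (r * (a * r * a⁻¹)⁻¹)) := by
  set z := r * (a * r * a⁻¹) with hz
  have h1 : a * r * a⁻¹ = r⁻¹ * z := by rw [hz, inv_mul_cancel_left]
  have hcom : Commute r (a * r * a⁻¹) := by
    rw [h1]
    exact (Commute.refl r).inv_right.mul_right (h.2 r hr)
  have haa : a * (a * r * a⁻¹) * a⁻¹ = r := by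
    rw [show a * (a * r * a⁻¹) * a⁻¹ = (a * a) * r * (a * a)⁻¹ by group, ha2]
    group
  refine ⟨?_, mul_mem hr (inv_mem (conj_mem_iff haN hr)),
    odd_mul hcom.inv_right hodd (odd_inv (odd_conj a hodd)), ?_⟩
  · rw [show a * (r * (a * r * a⁻¹)⁻¹) * a⁻¹ = (a * r * a⁻¹) * (a * (a * r * a⁻¹) * a⁻¹)⁻¹ by group,
      haa, mul_inv_rev, inv_inv]
  · have e : (r * r)⁻¹ * (r * (a * r * a⁻¹)⁻¹) = r⁻¹ * z⁻¹ * r := by
      rw [h1]; group
    have hc2 : r⁻¹ * z⁻¹ * r = z⁻¹ := by
      rw [mul_assoc, ← h.inv.2 r hr, inv_mul_cancel_left]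
    rw [e, hc2]
    exact h.inv

theorem not_isPGroup_of_component [Finite X] {K : Subgroup X} (hK : Cfsg.IsComponent K) (p : ℕ)
    [Fact p.Prime] : ¬ IsPGroup p K := fun h => by
  haveI := h.isNilpotent
  haveI := qs_nontrivial hK.2
  haveI := hK.2.1
  exact Group.IsPerfect.not_isSolvable (G := K) inferInstance

/-- An involution normalising, and not centralising, a component inverts an element of odd order
in it. -/
theorem exists_inverted_component [Finite X] {K : Subgroup X} (hK : Cfsg.IsComponent K) {a : X}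
    (ha2 : a * a = 1) (haN : a ∈ Subgroup.normalizer (K : Set X))
    (hac : ¬ ∀ y ∈ K, a * y * a⁻¹ = y) :
    ∃ r ∈ K, r ≠ 1 ∧ Odd (orderOf r) ∧ a * r * a⁻¹ = r⁻¹ := by
  classical
  haveI : Fact (Nat.Prime 2) := ⟨Nat.prime_two⟩
  set H := K ⊔ Subgroup.zpowers a with hH
  have hKH : K ≤ H := le_sup_left
  have haH : a ∈ H := le_sup_right (a := K) (Subgroup.mem_zpowers a)
  have hcase : ∀ h ∈ H, h ∈ K ∨ ∃ k ∈ K, h = k * a := by
    intro h hh
    rw [hH, ← SetLike.mem_coe, Subgroup.coe_mul_of_right_le_normalizer_left K (Subgroup.zpowers a)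
      (Subgroup.zpowers_le.2 haN)] at hh
    obtain ⟨k, hk, c, hc, rfl⟩ := hh
    obtain ⟨n, rfl⟩ := hc
    rcases Int.even_or_odd n with ⟨j, rfl⟩ | ⟨j, rfl⟩
    · left
      show k * a ^ (j + j) ∈ K
      rwa [← two_mul, zpow_mul, zpow_two, ha2, one_zpow, mul_one]
    · right
      refine ⟨k, hk, ?_⟩
      show k * a ^ (2 * j + 1) = k * a
      rw [zpow_add, zpow_mul, zpow_two, ha2, one_zpow, one_mul, zpow_one]
  have ho : orderOf (⟨a, haH⟩ : H) = 2 := by
    refine orderOf_eq_prime (Subtype.ext (by rw [SubgroupClass.coe_pow, pow_two]; exact ha2)) fun h => ?_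
    have h' : a = 1 := congrArg Subtype.val h
    exact hac fun y _ => by simp [h']
  have hO : (⟨a, haH⟩ : H) ∉ Cfsg.pCore 2 H := by
    intro hmem
    haveI := Solv.pCore_normal (G := H) 2
    set O := (Cfsg.pCore 2 H).map H.subtype
    have hOp : IsPGroup 2 O := (Solv.pCore_isPGroup 2).map _
    let N : Subgroup K := O.subgroupOf K
    haveI hN : N.Normal := ⟨fun n hn g => by
      obtain ⟨u, hu, hue⟩ := hn
      exact ⟨⟨(g : X), hKH g.2⟩ * u * ⟨(g : X), hKH g.2⟩⁻¹,
        Subgroup.Normal.conj_mem inferInstance u hu _, by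
          show (g : X) * (u : X) * (g : X)⁻¹ = (g : X) * (n : X) * (g : X)⁻¹
          rw [show (u : X) = (n : X) from hue]⟩⟩
    rcases qs_normal_le_center_or_top hK.2 N with h | h
    · exact not_isPGroup_of_component hK 2 (hOp.to_le (Subgroup.subgroupOf_eq_top.1 h))
    · refine hac fun y hy => ?_
      have e := agree_of_agree_mod_center (b := (1 : X)) hK.2.1 haN (one_mem _) (fun w hw => ?_) y hy
      · simpa using e
      have hwc : w⁻¹ * (a * w * a⁻¹) ∈ K := mul_mem (inv_mem hw) (conj_mem_iff haN hw)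
      have hmemO : w⁻¹ * (a * w * a⁻¹) ∈ O := by
        refine ⟨(⟨w, hKH hw⟩ : H)⁻¹ * ⟨a, haH⟩ * ⟨w, hKH hw⟩ * (⟨a, haH⟩ : H)⁻¹, ?_, ?_⟩
        · refine mul_mem ?_ (inv_mem hmem)
          have := Subgroup.Normal.conj_mem inferInstance _ hmem (⟨w, hKH hw⟩ : H)⁻¹
          rwa [inv_inv] at this
        · simp [mul_assoc]
      have hc := h (show (⟨_, hwc⟩ : K) ∈ N from hmemO)
      refine ⟨by simpa using hwc, fun v hv => ?_⟩
      simpa using congrArg Subtype.val (Subgroup.mem_center_iff.1 hc ⟨v, hv⟩)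
  obtain ⟨h, h1, hodd, hinv⟩ := Solv.exists_odd_inverted ho hO
  refine ⟨h, ?_, fun e => h1 (Subtype.ext e), by rwa [Subgroup.orderOf_coe], congrArg Subtype.val hinv⟩
  have hsq : (h : X) ^ 2 ∈ K := by
    rw [pow_two]
    rcases hcase _ h.2 with hk | ⟨k, hk, he⟩
    · exact mul_mem hk hk
    · rw [he, show k * a * (k * a) = k * (a * k * a⁻¹) * (a * a) by group, ha2, mul_one]
      exact mul_mem hk (conj_mem_iff haN hk)
  obtain ⟨j, hj⟩ := hodd
  rw [← Subgroup.orderOf_coe] at hj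
  have h2 : ((h : X) ^ 2) ^ (j + 1) = h := by
    rw [← pow_mul, show 2 * (j + 1) = orderOf (h : X) + 1 by omega, pow_succ, pow_orderOf_eq_one,
      one_mul]
  rw [← h2]
  exact pow_mem hsq _

/-- An element of a component spread over a group permuting its conjugates regularly. -/
theorem exists_spread [Finite X] {K : Subgroup X} (hK : Cfsg.IsComponent K) (T : Subgroup X)
    (hT : ∀ t ∈ T, t ∈ Subgroup.normalizer (K : Set X) → t = 1) :
    ∃ δ : K →* X, (∀ r : K, ∀ t ∈ T, t * δ r = δ r * t) ∧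
      (∀ (r : K) (z : X), (∀ t ∈ T, Commute z (t * r * t⁻¹)) → Commute z (δ r)) ∧
      (∀ x ∈ Subgroup.normalizer (K : Set X), (∀ t ∈ T, t * x = x * t) → ∀ r r' : K,
        x * r * x⁻¹ = r' → x * δ r * x⁻¹ = δ r') ∧
      ∀ r : K, ∀ y ∈ K, y * δ r = δ r * y → y * r = r * y := by
  classical
  haveI := Fintype.ofFinite T
  have hne : ∀ s t : T, s ≠ t →
      K.map (MulAut.conj (s : X)).toMonoidHom ≠ K.map (MulAut.conj (t : X)).toMonoidHom := by
    intro s t hst he
    refine hst ?_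
    have h1 : (t : X)⁻¹ * s ∈ Subgroup.normalizer (K : Set X) := by
      refine Subgroup.mem_normalizer_iff.2 fun y => ⟨fun hy => ?_, fun hy => ?_⟩
      · have h2 : (s : X) * y * (s : X)⁻¹ ∈ K.map (MulAut.conj (t : X)).toMonoidHom := he ▸ ⟨y, hy, rfl⟩
        obtain ⟨w, hw, hwe⟩ := h2
        rw [MulEquiv.toMonoidHom_eq_coe, MonoidHom.coe_coe, MulAut.conj_apply] at hwe
        rw [show (t : X)⁻¹ * s * y * ((t : X)⁻¹ * s)⁻¹ = (t : X)⁻¹ * (s * y * (s : X)⁻¹) * t by group,
          ← hwe, show (t : X)⁻¹ * (t * w * (t : X)⁻¹) * t = w by group]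
        exact hw
      · have h2 : (t : X) * ((t : X)⁻¹ * s * y * ((t : X)⁻¹ * s)⁻¹) * (t : X)⁻¹ ∈
            K.map (MulAut.conj (s : X)).toMonoidHom := he ▸ ⟨_, hy, rfl⟩
        obtain ⟨w, hw, hwe⟩ := h2
        rw [MulEquiv.toMonoidHom_eq_coe, MonoidHom.coe_coe, MulAut.conj_apply,
          show (t : X) * ((t : X)⁻¹ * s * y * ((t : X)⁻¹ * s)⁻¹) * (t : X)⁻¹ = s * y * (s : X)⁻¹ by group]
          at hwe
        rwa [← mul_left_cancel (mul_right_cancel hwe)]
    have h2 := hT _ (mul_mem (inv_mem t.2) s.2) h1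
    exact Subtype.ext (inv_mul_eq_one.1 h2).symm
  have hcomm : ∀ s t : T, s ≠ t → ∀ x y : K,
      Commute ((s : X) * x * (s : X)⁻¹) ((t : X) * y * (t : X)⁻¹) := by
    intro s t hst x y
    have h1 := components_commute (component_conj hK (s : X)) (component_conj hK (t : X)) (hne s t hst)
    exact (Subgroup.mem_centralizer_iff.1 (Subgroup.commutator_eq_bot_iff_le_centralizer.1 h1
      ⟨x, x.2, rfl⟩) _ ⟨y, y.2, rfl⟩).symm
  let f : T → K →* X := fun t => (MulAut.conj (t : X)).toMonoidHom.comp K.subtype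
  have hf : ∀ (t : T) (r : K), f t r = (t : X) * r * (t : X)⁻¹ := fun _ _ => rfl
  let δ : K →* X := (MonoidHom.noncommPiCoprod f fun s t hst x y => hcomm s t hst x y).comp
    (MonoidHom.pi fun _ => MonoidHom.id K)
  have hp : ∀ r : K, ((Finset.univ : Finset T) : Set T).Pairwise
      (Function.onFun Commute fun t => f t r) := fun r s _ t _ hst => hcomm s t hst r r
  have hδ : ∀ r : K, δ r = Finset.univ.noncommProd (fun t => f t r) (hp r) := fun r => rfl
  refine ⟨δ, fun r t₀ ht₀ => ?_, fun r z hz => ?_, fun x hxN hxT r r' hrr => ?_, fun r y hy hcy => ?_⟩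
  · have e : MulAut.conj t₀ (δ r) = δ r := by
      refine (congrArg _ (hδ r)).trans ((Finset.map_noncommProd _ _ _ (MulAut.conj t₀)).trans ?_)
      rw [hδ]
      unfold Finset.noncommProd
      congr 1
      have h2 : (fun t => MulAut.conj t₀ (f t r)) =
          (fun t => f t r) ∘ (Equiv.mulLeft (⟨t₀, ht₀⟩ : T)) := by
        funext t
        simp [hf, MulAut.conj_apply, mul_assoc, Equiv.coe_mulLeft]
      rw [h2, ← Multiset.map_map, Multiset.map_univ_val_equiv]
    rw [MulAut.conj_apply] at e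
    calc t₀ * δ r = t₀ * δ r * t₀⁻¹ * t₀ := by group
      _ = δ r * t₀ := by rw [e]
  · rw [hδ]
    exact Finset.noncommProd_commute _ _ _ z fun t _ => by rw [hf]; exact hz t t.2
  · rw [← MulAut.conj_apply]
    refine (congrArg _ (hδ r)).trans ((Finset.map_noncommProd _ _ _ (MulAut.conj x)).trans ?_)
    rw [hδ]
    refine Finset.noncommProd_congr rfl (fun t _ => ?_) _
    rw [hf, hf, MulAut.conj_apply, ← hrr]
    have h1 : x * (t : X) = (t : X) * x := (hxT t t.2).symm
    have h2 : (t : X)⁻¹ * x⁻¹ = x⁻¹ * (t : X)⁻¹ := by rw [← mul_inv_rev, h1, mul_inv_rev]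
    calc x * ((t : X) * r * (t : X)⁻¹) * x⁻¹ = (x * t) * r * ((t : X)⁻¹ * x⁻¹) := by group
      _ = _ := by rw [h1, h2]; group
  · have h1 := Finset.mul_noncommProd_erase Finset.univ (Finset.mem_univ (1 : T)) (fun t => f t r)
      (fun s _ t _ hst => hcomm s t hst r r)
    rw [← hδ] at h1
    have hrest : Commute y ((Finset.univ.erase (1 : T)).noncommProd (fun t => f t r)
        (fun s _ t _ hst => hcomm s t hst r r)) := by
      refine Finset.noncommProd_commute _ _ _ y fun t ht => ?_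
      have := hcomm (1 : T) t (Finset.ne_of_mem_erase ht).symm ⟨y, hy⟩ r
      simpa [hf] using this
    rw [← h1, hf] at hcy
    simp only [OneMemClass.coe_one, one_mul, inv_one, mul_one] at hcy
    rw [← mul_assoc, mul_assoc (r : X), ← hrest.eq, ← mul_assoc] at hcy
    exact mul_right_cancel hcy

end Cfsg.Agent.Solv.OffGain
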