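import Cfsg.Agent.Lib.Small.PSL2
import Cfsg.Agent.Lib.Small.SL2.Torus
import Cfsg.Agent.Lib.Small.SL2.Orders

/-!
Elementary abelian groups of automorphisms of `PSL₂` over a field of order an odd power of three.
-/

set_option autoImplicit false
set_option linter.unusedSectionVars false
set_option linter.style.haveILetI false

namespace Cfsg.Agent.Solv.OffGain

open Matrix Cfsg.Agent.Small Cfsg.Agent.Small.PSL2

variable {F : Type} [Field F] [Fintype F] {n : ℕ} (hF : Fintype.card F = 3 ^ (2 * n + 1))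

local notation "SL2" => Matrix.SpecialLinearGroup (Fin 2) F
local notation "P2" => Matrix.ProjectiveSpecialLinearGroup (Fin 2) F
local notation "M2" => Matrix (Fin 2) (Fin 2) F

theorem mul_self_eq (A : M2) : A * A = A.trace • A - A.det • (1 : M2) := by
  ext i j
  fin_cases i <;> fin_cases j <;>
    simp [Matrix.mul_apply, Fin.sum_univ_two, Matrix.trace_fin_two, Matrix.det_fin_two] <;> ring

theorem conjP_smul {g h : GL (Fin 2) F} {s : F} (e : g.val = s • h.val) : conjP g = conjP h := by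
  ext x
  obtain ⟨A, rfl⟩ := pr_surjective x
  rw [conjP_apply, conjP_apply]
  congr 1
  apply Subtype.ext
  rw [conjSL_val, conjSL_val]
  have hi : g⁻¹.val = s⁻¹ • h⁻¹.val := by
    have hs : s ≠ 0 := fun h0 => g.ne_zero (by rw [e, h0, zero_smul])
    refine Units.inv_eq_of_mul_eq_one_right ?_
    rw [e, Matrix.smul_mul, Matrix.mul_smul, smul_smul, mul_inv_cancel₀ hs, one_smul,
      ← Units.val_mul, mul_inv_cancel, Units.val_one]
  have hs : s ≠ 0 := fun h0 => g.ne_zero (by rw [e, h0, zero_smul])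
  rw [hi, e, Matrix.smul_mul, Matrix.smul_mul, Matrix.mul_smul, smul_smul, mul_inv_cancel₀ hs, one_smul]

theorem not_scalar {g : GL (Fin 2) F} (h : conjP g ≠ 1) (c : F) : g.val ≠ c • (1 : M2) := fun e => by
  refine h ((conjP_smul (h := 1) (s := c) (by rw [e, Units.val_one])).trans (map_one _))

include hF

theorem char_three : CharP F 3 := by
  haveI : Fact (Nat.Prime 3) := ⟨Nat.prime_three⟩
  exact charP_of_card_eq_prime_pow hF

theorem two_ne : (2 : F) ≠ 0 := by
  haveI := char_three hF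
  intro h
  have : ((2 : ℕ) : F) = 0 := by exact_mod_cast h
  rw [CharP.cast_eq_zero_iff F 3] at this
  omega

/-- Involutory automorphisms are conjugations. -/
theorem eq_conjP (φ : MulAut P2) (h : φ * φ = 1) : ∃ g : GL (Fin 2) F, φ = conjP g := by
  haveI : Fact (Nat.Prime 3) := ⟨Nat.prime_three⟩
  haveI := char_three hF
  obtain ⟨g, σ, rfl⟩ := aut_eq hF φ
  have h2 : σ * σ = 1 := by
    refine field_unique (g := g * glField σ g) (g' := 1) ?_
    rw [map_mul, map_mul, map_one, map_one, mul_one, mul_assoc (conjP g),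
      ← mul_assoc (conjP (glField σ g)), ← fieldP_conjP]
    simpa [mul_assoc] using h
  have hcard : Nat.card (F ≃+* F) = 2 * n + 1 := by
    letI : Algebra (ZMod 3) F := ZMod.algebra F 3
    let e : (F ≃+* F) ≃ (F ≃ₐ[ZMod 3] F) :=
      { toFun := fun σ => AlgEquiv.ofRingEquiv (f := σ) fun x =>
          RingHom.congr_fun (Subsingleton.elim ((σ : F →+* F).comp (algebraMap (ZMod 3) F))
            (algebraMap (ZMod 3) F)) x
        invFun := fun σ => σ.toRingEquiv
        left_inv := fun σ => RingEquiv.ext fun _ => rfl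
        right_inv := fun σ => AlgEquiv.ext fun _ => rfl }
    rw [Nat.card_congr e, IsGalois.card_aut_eq_finrank]
    have h := Module.card_eq_pow_finrank (K := ZMod 3) (V := F)
    rw [hF, ZMod.card] at h
    exact (Nat.pow_right_injective (by norm_num) h).symm
  haveI : Finite (F ≃+* F) := Nat.finite_of_card_ne_zero (by omega)
  have h1 : orderOf σ = 1 := Nat.eq_one_of_dvd_coprimes (show Nat.Coprime 2 (2 * n + 1) by simp)
    (orderOf_dvd_of_pow_eq_one (by rw [pow_two, h2])) (hcard ▸ orderOf_dvd_natCard σ)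
  exact ⟨g, by rw [orderOf_eq_one_iff.1 h1, map_one, mul_one]⟩

theorem trace_eq_zero {g : GL (Fin 2) F} (h : conjP g * conjP g = 1) (h1 : conjP g ≠ 1) :
    g.val.trace = 0 := by
  rw [← map_mul] at h
  have h2 := scalar_of_conjP_eq_one h
  rw [Units.val_mul, mul_self_eq, sub_eq_iff_eq_add, ← add_smul] at h2
  by_contra ht
  refine not_scalar h1 ((g.val.trace)⁻¹ * ((g * g).val 0 0 + g.val.det)) ?_
  rw [Units.val_mul, mul_self_eq, mul_smul, ← h2, smul_smul, inv_mul_cancel₀ ht, one_smul]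

/-- Distinct commuting involutory conjugations come from anticommuting matrices. -/
theorem anticommute {g h : GL (Fin 2) F} (hg : conjP g * conjP g = 1) (hh : conjP h * conjP h = 1)
    (hg1 : conjP g ≠ 1) (hh1 : conjP h ≠ 1) (hne : conjP g ≠ conjP h)
    (hc : conjP g * conjP h = conjP h * conjP g) : g.val * h.val = -(h.val * g.val) := by
  have e1 : conjP (g * h * (h * g)⁻¹) = 1 := by
    rw [map_mul, map_mul, map_inv, map_mul, hc, mul_inv_cancel]
  obtain ⟨s, hs⟩ : ∃ s : F, g.val * h.val = s • (h.val * g.val) := by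
    refine ⟨(g * h * (h * g)⁻¹).val 0 0, ?_⟩
    have h3 := congrArg (fun M => M * (h * g).val) (scalar_of_conjP_eq_one e1)
    rw [← Units.val_mul, inv_mul_cancel_right, Units.val_mul, Matrix.smul_mul, Matrix.one_mul,
      Units.val_mul] at h3
    exact h3
  set G := g.val
  set H := h.val
  have hG : G * G = -G.det • (1 : M2) := by
    rw [mul_self_eq, trace_eq_zero hF hg hg1, zero_smul, zero_sub, neg_smul]
  have hd : G.det ≠ 0 := Matrix.GeneralLinearGroup.det_ne_zero g
  have hH0 : H ≠ 0 := h.ne_zero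
  have h4 : s * s = 1 := by
    have e2 : G * G * H = (s * s) • (H * (G * G)) := by
      rw [mul_assoc, hs, Matrix.mul_smul, ← mul_assoc, hs, Matrix.smul_mul, mul_assoc, smul_smul]
    rw [hG, Matrix.smul_mul, Matrix.one_mul, Matrix.mul_smul, Matrix.mul_one, smul_smul] at e2
    have e3 := smul_left_injective F hH0 e2
    exact (mul_right_cancel₀ (neg_ne_zero.2 hd) (by rw [← e3, one_mul] : 1 * -G.det = s * s * -G.det)).symm
  rcases mul_self_eq_one_iff.1 h4 with rfl | rfl
  · exfalso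
    rw [one_smul] at hs
    have hns : ¬ SL2C.IsSc G := fun ⟨c, hc'⟩ => not_scalar hg1 c hc'
    obtain ⟨x, y, hxy⟩ := SL2C.exists_comb hns hs.symm
    have ht := congrArg Matrix.trace hxy
    rw [trace_eq_zero hF hh hh1, SL2C.comb_trace, trace_eq_zero hF hg hg1, mul_zero, add_zero] at ht
    have hx : x = 0 := (mul_eq_zero.1 ht.symm).resolve_left (two_ne hF)
    rw [hx, SL2C.comb, zero_smul, zero_add] at hxy
    exact hne (conjP_smul (g := h) (h := g) (s := y) hxy).symm
  · rw [hs, neg_one_smul]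

theorem inner_of_square {g : GL (Fin 2) F} (h : IsSquare g.val.det) :
    ∃ B : SL2, conjP g = MulAut.conj (pr B) ∧ ∃ s : F, s ≠ 0 ∧ B.1 = s • g.val := by
  obtain ⟨s, hs⟩ := h
  have hs0 : s ≠ 0 := fun h0 => Matrix.GeneralLinearGroup.det_ne_zero g (by rw [hs, h0, mul_zero])
  let B : SL2 := ⟨s⁻¹ • g.val, by
    rw [Matrix.det_smul, Fintype.card_fin, hs]; field_simp⟩
  refine ⟨B, ?_, s⁻¹, inv_ne_zero hs0, rfl⟩
  rw [← conjP_toGL]
  refine (conjP_smul (s := s⁻¹) ?_).symm
  rfl

/-- A larger elementary group of automorphisms is generated by an inner and a further involution,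
which act on an element of odd order. -/
theorem ltwo_gain (hn : 1 ≤ n) (C : Subgroup (MulAut P2)) (hC : ∀ x ∈ C, x * x = 1)
    (hcomm : ∀ x ∈ C, ∀ y ∈ C, x * y = y * x) (hbig : 2 < Nat.card C) :
    ∃ (k r : P2) (c : MulAut P2), MulAut.conj k ∈ C ∧ MulAut.conj k ≠ 1 ∧ c ∈ C ∧
      r ≠ 1 ∧ Odd (orderOf r) ∧ k * r * k⁻¹ = r ∧ c r = r⁻¹ ∧
      ∀ x ∈ C, x = 1 ∨ x = MulAut.conj k ∨ x = c ∨ x = c * MulAut.conj k := by
  classical
  obtain ⟨u, hu, v, hv, hu1, hv1, huv⟩ :
      ∃ u ∈ C, ∃ v ∈ C, u ≠ 1 ∧ v ≠ 1 ∧ u ≠ v := by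
    haveI := Fintype.ofFinite C
    rw [Nat.card_eq_fintype_card, Fintype.two_lt_card_iff] at hbig
    obtain ⟨a, b, c, hab, hac, hbc⟩ := hbig
    by_cases ha : (a : MulAut P2) = 1
    · exact ⟨b, b.2, c, c.2, fun h => hab (Subtype.ext (ha.trans h.symm)),
        fun h => hac (Subtype.ext (ha.trans h.symm)), fun h => hbc (Subtype.ext h)⟩
    · by_cases hb : (b : MulAut P2) = 1
      · exact ⟨a, a.2, c, c.2, ha, fun h => hbc (Subtype.ext (hb.trans h.symm)),
          fun h => hac (Subtype.ext h)⟩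
      · exact ⟨a, a.2, b, b.2, ha, hb, fun h => hab (Subtype.ext h)⟩
  obtain ⟨g, rfl⟩ := eq_conjP hF u (hC u hu)
  obtain ⟨h, rfl⟩ := eq_conjP hF v (hC v hv)
  -- an inner involution and a second one
  obtain ⟨B, hB, c, hc, hc1, hbc⟩ : ∃ B : SL2, MulAut.conj (pr B) ∈ C ∧ ∃ c ∈ C,
      c ≠ 1 ∧ MulAut.conj (pr B) ≠ c ∧ MulAut.conj (pr B) ≠ 1 := by
    by_cases hg : IsSquare g.val.det
    · obtain ⟨B, hB, -⟩ := inner_of_square hF hg
      exact ⟨B, hB ▸ hu, _, hv, hv1, hB ▸ huv, hB ▸ hu1⟩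
    by_cases hh : IsSquare h.val.det
    · obtain ⟨B, hB, -⟩ := inner_of_square hF hh
      exact ⟨B, hB ▸ hv, _, hu, hu1, hB ▸ huv.symm, hB ▸ hv1⟩
    obtain ⟨B, hB, -⟩ := inner_of_square hF (g := g * h) (by
      rw [Units.val_mul, Matrix.det_mul]
      exact SL2C.isSquare_mul_of_not (two_ne hF) hg hh)
    rw [map_mul] at hB
    refine ⟨B, hB ▸ mul_mem hu hv, _, hu, hu1, hB ▸ fun e => hv1 (mul_eq_left.1 e), hB ▸ fun e => ?_⟩
    exact huv ((mul_eq_one_iff_eq_inv.1 e).trans (inv_eq_of_mul_eq_one_right (hC _ hv)))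
  obtain ⟨hbc, hb1⟩ := hbc
  obtain ⟨k, hk⟩ := eq_conjP hF c (hC c hc)
  subst hk
  have hbP : conjP (Matrix.SpecialLinearGroup.toGL B) = MulAut.conj (pr B) := conjP_toGL B
  have hanti : B.1 * k.val = -(k.val * B.1) := anticommute hF (g := Matrix.SpecialLinearGroup.toGL B)
    (by rw [hbP]; exact hC _ hB) (hC _ hc) (by rwa [hbP]) hc1 (by rwa [hbP]) (by rw [hbP]; exact hcomm _ hB _ hc)
  have htr : B.1.trace = 0 :=
    trace_eq_zero hF (g := Matrix.SpecialLinearGroup.toGL B) (by rw [hbP]; exact hC _ hB) (by rwa [hbP])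
  -- every element is one of four
  have hall : ∀ x ∈ C, x = 1 ∨ x = MulAut.conj (pr B) ∨ x = conjP k ∨ x = conjP k * MulAut.conj (pr B) := by
    intro x hx
    by_contra hne
    push Not at hne
    obtain ⟨hx1, hxb, hxc, hxbc⟩ := hne
    obtain ⟨w, rfl⟩ := eq_conjP hF x (hC x hx)
    have a1 := anticommute hF (g := Matrix.SpecialLinearGroup.toGL B) (h := w)
      (by rw [hbP]; exact hC _ hB) (hC _ hx) (by rwa [hbP]) hx1 (by rw [hbP]; exact hxb.symm)
      (by rw [hbP]; exact hcomm _ hB _ hx)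
    have a2 := anticommute hF (g := k) (h := w) (hC _ hc) (hC _ hx) hc1 hx1 hxc.symm (hcomm _ hc _ hx)
    have hp : conjP (k * Matrix.SpecialLinearGroup.toGL B) = conjP k * MulAut.conj (pr B) := by
      rw [map_mul, hbP]
    have hp1 : conjP k * MulAut.conj (pr B) ≠ 1 := fun e =>
      hbc ((mul_eq_one_iff_inv_eq.1 e).symm.trans (inv_eq_of_mul_eq_one_right (hC _ hc)))
    have a3 := anticommute hF (g := k * Matrix.SpecialLinearGroup.toGL B) (h := w)
      (by rw [hp]; exact hC _ (mul_mem hc hB)) (hC _ hx) (by rwa [hp]) hx1 (by rw [hp]; exact hxbc.symm)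
      (by rw [hp]; exact hcomm _ (mul_mem hc hB) _ hx)
    have a4 : (k * Matrix.SpecialLinearGroup.toGL B).val * w.val =
        w.val * (k * Matrix.SpecialLinearGroup.toGL B).val := by
      rw [Units.val_mul]
      show k.val * B.1 * w.val = w.val * (k.val * B.1)
      rw [mul_assoc, show B.1 * w.val = -(w.val * B.1) from a1, mul_neg, ← mul_assoc, a2, neg_mul,
        neg_neg, mul_assoc]
    rw [a4] at a3
    have h0 : (2 : F) • (w.val * (k * Matrix.SpecialLinearGroup.toGL B).val) = 0 := by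
      rw [two_smul]
      nth_rewrite 2 [a3]
      exact add_neg_cancel _
    exact (w * (k * Matrix.SpecialLinearGroup.toGL B)).ne_zero
      ((smul_eq_zero.1 h0).resolve_left (two_ne hF))
  -- the torus
  have ht : B.1.trace * B.1.trace ≠ 4 := by
    rw [htr, mul_zero]
    intro e
    apply two_ne hF
    have : (2 : F) * 2 = 0 := by rw [e]; norm_num
    exact (mul_self_eq_zero.1 this)
  haveI := char_three hF
  have hq4 : Fintype.card F % 4 = 3 ∧ Fintype.card F % 8 = 3 ∧ 27 ≤ Fintype.card F := by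
    rw [hF]
    refine ⟨?_, ?_, ?_⟩
    · rw [pow_succ, pow_mul, Nat.mul_mod, Nat.pow_mod]; norm_num
    · rw [pow_succ, pow_mul, Nat.mul_mod, Nat.pow_mod]; norm_num
    · calc 27 = 3 ^ 3 := by norm_num
        _ ≤ _ := Nat.pow_le_pow_right (by norm_num) (by omega)
  have hsol : SL2C.sol B.1.trace 1 = Fintype.card F + 1 := by
    refine ((SL2C.sol_eq ht).resolve_left fun ⟨h2, _⟩ => ?_).2
    rw [SL2C.roots, htr] at h2
    obtain ⟨⟨⟨j, hj⟩⟩⟩ : Nonempty {x : F // x * x + 0 * x + 1 = 0} ∧ True :=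
      ⟨(Nat.card_pos_iff.1 (by omega)).1, trivial⟩
    have : IsSquare (-1 : F) := ⟨j, by linear_combination -hj⟩
    rw [FiniteField.isSquare_neg_one_iff] at this
    omega
  have hsq : ¬ SL2C.IsSc B.1 := fun ⟨s, hs⟩ => by
    refine not_scalar (g := Matrix.SpecialLinearGroup.toGL B) (by rwa [hbP]) s ?_
    exact hs
  obtain ⟨ℓ, hℓ, hℓd⟩ := Nat.exists_prime_and_dvd (show (Fintype.card F + 1) / 4 ≠ 1 by omega)
  have hℓ2 : ℓ ≠ 2 := by rintro rfl; omega
  haveI : Fact ℓ.Prime := ⟨hℓ⟩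
  have hdvd : ℓ ∣ Nat.card (SL2C.tor B) := by
    rw [SL2C.card_centralizer B hsq, hsol]
    exact hℓd.trans ⟨4, by omega⟩
  obtain ⟨⟨R, hR⟩, hRo⟩ := exists_prime_orderOf_dvd_card' ℓ hdvd
  rw [Subgroup.orderOf_mk] at hRo
  have hRB : R.1 * B.1 = B.1 * R.1 := SL2C.mem_tor.1 hR
  have hprR : orderOf (pr R) = ℓ := by
    refine orderOf_eq_prime (by rw [← map_pow, ← hRo, pow_orderOf_eq_one, map_one]) fun e => ?_
    obtain ⟨ε, hε, hm⟩ := (pr_eq_iff R 1).1 (by rw [e, map_one])
    have h2 : R ^ 2 = 1 := by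
      apply Subtype.ext
      rw [pow_two, val_mul, hm, Matrix.SpecialLinearGroup.coe_one, Matrix.smul_mul, Matrix.one_mul,
        smul_smul, hε, one_smul]
    have := Nat.le_of_dvd two_pos (hRo ▸ orderOf_dvd_of_pow_eq_one h2)
    have := hℓ.two_le
    omega
  refine ⟨pr B, pr R, conjP k, hB, hb1, hc, fun e => ?_, hprR ▸ hℓ.odd_of_ne_two hℓ2, ?_, ?_, hall⟩
  · rw [e, orderOf_one] at hprR; exact hℓ.ne_one hprR.symm
  · rw [← map_inv, ← map_mul, ← map_mul]
    congr 1
    rw [show B * R = R * B from Subtype.ext hRB.symm, mul_inv_cancel_right]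
  · rw [conjP_apply, ← map_inv]
    congr 1
    apply Subtype.ext
    obtain ⟨x, y, hxy⟩ := SL2C.exists_comb hsq hRB
    rw [conjSL_val, SL2C.inv_val, hxy, SL2C.comb_trace, htr, mul_zero, add_zero, SL2C.comb,
      Matrix.mul_add, Matrix.add_mul, Matrix.mul_smul, Matrix.mul_one, Matrix.smul_mul, ← Units.val_mul,
      mul_inv_cancel, Units.val_one, Matrix.mul_smul, Matrix.smul_mul]
    have hkB : k.val * B.1 * k⁻¹.val = -B.1 := by
      rw [show k.val * B.1 = -(B.1 * k.val) by rw [hanti, neg_neg], neg_mul, mul_assoc, ← Units.val_mul,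
        mul_inv_cancel, Units.val_one, mul_one]
    rw [hkB, smul_neg]
    module

end Cfsg.Agent.Solv.OffGain
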