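import Cfsg.Agent.Lib.Small.SuzukiAut
import Cfsg.Agent.Lib.Lie.SuzukiTori
import Cfsg.Agent.S2904

/-!
Involutions of Suzuki groups and the elements of primitive prime order they invert.
-/

set_option autoImplicit false
set_option linter.unusedSectionVars false
set_option linter.style.haveILetI false

namespace Cfsg.Agent.Solv.OffGain

open Cfsg.Agent.Lie.Suzuki

variable {F : Type} [Field F] {m : ℕ} [Fintype F] (hF : Fintype.card F = 2 ^ (2 * m + 1)) (hm : 1 ≤ m)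
include hF hm

theorem exists_conj_zSub {a : Cfsg.Sz F m} (ha : a * a = 1) :
    ∃ g : Cfsg.Sz F m, g * a * g⁻¹ ∈ zSub hF := by
  haveI : Fact (Nat.Prime 2) := ⟨Nat.prime_two⟩
  have hp : IsPGroup 2 (Subgroup.zpowers a) := by
    rcases (Nat.dvd_prime Nat.prime_two).1 (orderOf_dvd_of_pow_eq_one (show a ^ 2 = 1 by rwa [pow_two]))
      with e | e
    · exact IsPGroup.of_card (n := 0) (by rw [Nat.card_zpowers, e, pow_zero])
    · exact IsPGroup.of_card (n := 1) (by rw [Nat.card_zpowers, e, pow_one])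
  obtain ⟨P, hP⟩ := hp.exists_le_sylow
  obtain ⟨g, hg⟩ := Small.SuzukiFacts.exists_conj_uSub hF hm P
  have h1 : a ∈ (uSub (m := m) hF).map (MulAut.conj g).toMonoidHom :=
    hg ▸ hP (Subgroup.mem_zpowers a)
  obtain ⟨u, hu, rfl⟩ := h1
  refine ⟨g⁻¹, (Small.SuzukiAut.mem_zSub_iff hF _).2 ?_⟩
  rw [MulEquiv.toMonoidHom_eq_coe, MonoidHom.coe_coe, MulAut.conj_apply] at ha ⊢
  rw [show g⁻¹ * (g * u * g⁻¹) * g⁻¹⁻¹ = u by group]
  refine ⟨hu, mul_left_cancel (a := g) (mul_right_cancel (b := g⁻¹) ?_)⟩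
  rw [show g * (u * u) * g⁻¹ = g * u * g⁻¹ * (g * u * g⁻¹) by group, ha]
  group

theorem invol_conj {a b : Cfsg.Sz F m} (ha : a * a = 1) (hb : b * b = 1) (ha1 : a ≠ 1)
    (hb1 : b ≠ 1) : ∃ g, g * a * g⁻¹ = b := by
  classical
  obtain ⟨g, x, hx⟩ := exists_conj_zSub hF hm ha
  obtain ⟨h, y, hy⟩ := exists_conj_zSub hF hm hb
  have hx0 : x ≠ 0 := by
    rintro rfl
    rw [tS_zero hF] at hx
    exact ha1 (by simpa using hx)
  have hy0 : y ≠ 0 := by
    rintro rfl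
    rw [tS_zero hF] at hy
    exact hb1 (by simpa using hy)
  have hinj : Function.Injective fun k : Fˣ => k ^ (2 ^ (m + 1) + 1) := by
    intro k l hkl
    have h1 : (k / l) ^ (2 ^ (m + 1) + 1) = 1 := by
      rw [div_pow]
      exact div_eq_one.2 hkl
    have h2 := eq_one_of_pow_sg_add_one hF (m := m) (b := ((k / l : Fˣ) : F))
      (by rw [← Units.val_pow_eq_pow_val, h1, Units.val_one])
    exact div_eq_one.1 (Units.ext h2)
  obtain ⟨k, hk⟩ := (Finite.injective_iff_surjective.1 hinj) (Units.mk0 (y / x) (div_ne_zero hy0 hx0))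
  have hk' : (k : F) ^ (2 ^ (m + 1) + 1) = y / x := by
    rw [← Units.val_pow_eq_pow_val, show k ^ (2 ^ (m + 1) + 1) = _ from hk, Units.val_mk0]
  refine ⟨h⁻¹ * dS hF k * g, ?_⟩
  calc h⁻¹ * dS hF k * g * a * (h⁻¹ * dS hF k * g)⁻¹
      = h⁻¹ * (dS hF k * (g * a * g⁻¹) * (dS hF k)⁻¹) * h := by group
    _ = h⁻¹ * tS hF 0 y * h := by
        rw [hx, dS_mul_tS hF hm, mul_inv_cancel_right, mul_zero, hk', div_mul_cancel₀ y hx0]
    _ = b := by rw [← hy]; group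

theorem exists_real {ℓ : ℕ} (hℓ : ℓ.Prime) (hd : ℓ ∣ Fintype.card F ^ 2 + 1) :
    ∃ (t r : Cfsg.Sz F m), t * t = 1 ∧ t ≠ 1 ∧ orderOf r = ℓ ∧ t * r * t⁻¹ = r⁻¹ := by
  classical
  haveI : Fact ℓ.Prime := ⟨hℓ⟩
  obtain ⟨hℓ2, -⟩ := (q_facts hF hm).2.2.2 ℓ hℓ hd
  have hdvd : ℓ ∣ Nat.card (Cfsg.Sz F m) := by
    rw [card_sz hF hm]
    exact (hd.mul_left _).mul_right _
  obtain ⟨x, hx⟩ := exists_prime_orderOf_dvd_card' ℓ hdvd
  have hx1 : x ≠ 1 := fun e => by rw [e, orderOf_one] at hx; exact hℓ.ne_one hx.symm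
  obtain ⟨hcyc, hfpf, hUdvd, hnorm⟩ := torus hF hm hℓ hd hx
  set U := Subgroup.centralizer ({x} : Set (Cfsg.Sz F m))
  have hcomm : ∀ u ∈ U, ∀ v ∈ U, u * v = v * u := fun u hu v hv =>
    congrArg Subtype.val (hcyc.commGroup.mul_comm ⟨u, hu⟩ ⟨v, hv⟩)
  have hxU : x ∈ U := Subgroup.mem_centralizer_singleton_iff.2 rfl
  obtain ⟨P, hP⟩ := (IsPGroup.of_card (n := 1)
    (show Nat.card (Subgroup.zpowers x) = ℓ ^ 1 by rw [Nat.card_zpowers, hx, pow_one])).exists_le_sylow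
  have hxP : x ∈ (P : Subgroup (Cfsg.Sz F m)) := hP (Subgroup.mem_zpowers x)
  have hPcyc := sylow_cyclic hF hm hℓ2 P
  have hPc : ∀ u ∈ (P : Subgroup (Cfsg.Sz F m)), ∀ v ∈ (P : Subgroup (Cfsg.Sz F m)), u * v = v * u :=
    fun u hu v hv => congrArg Subtype.val (hPcyc.commGroup.mul_comm ⟨u, hu⟩ ⟨v, hv⟩)
  have hPU : ∀ u ∈ (P : Subgroup (Cfsg.Sz F m)), u ∈ U := fun u hu =>
    Subgroup.mem_centralizer_singleton_iff.2 (hPc u hu x hxP)
  obtain ⟨N, hN, hNc⟩ : ∃ N ∈ Subgroup.normalizer ((P : Subgroup (Cfsg.Sz F m)) : Set (Cfsg.Sz F m)),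
      N ∉ Subgroup.centralizer ((P : Subgroup (Cfsg.Sz F m)) : Set (Cfsg.Sz F m)) := by
    by_contra hno
    push Not at hno
    have hle : Subgroup.normalizer ((P : Subgroup (Cfsg.Sz F m)) : Set (Cfsg.Sz F m)) ≤
        Subgroup.centralizer ((P : Subgroup (Cfsg.Sz F m)) : Set (Cfsg.Sz F m)) := hno
    haveI := sz_simple hF hm
    have hc := MonoidHom.ker_transferSylow_isComplement' P hle
    rcases (MonoidHom.normal_ker (MonoidHom.transferSylow P hle)).eq_bot_or_eq_top with h | h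
    · rw [h, Subgroup.isComplement'_bot_left] at hc
      obtain ⟨k, hk⟩ := IsPGroup.iff_card.1 P.2
      have h2 : 2 ∣ Nat.card (Cfsg.Sz F m) := by
        rw [card_sz hF hm]
        exact (((q_facts hF hm).2.1.two_dvd.trans (dvd_pow_self _ two_ne_zero)).mul_right _).mul_right _
      rw [← Subgroup.card_top, ← hc, hk] at h2
      exact hℓ2 ((Nat.prime_dvd_prime_iff_eq Nat.prime_two hℓ).1 (Nat.prime_two.dvd_of_dvd_pow h2)).symm
    · rw [h, Subgroup.isComplement'_top_left] at hc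
      rw [hc, Subgroup.mem_bot] at hxP
      exact hx1 hxP
  have hNx : N * x * N⁻¹ ∈ U := hPU _ ((Subgroup.mem_normalizer_iff.1 hN x).1 hxP)
  obtain ⟨j, hj, hNj⟩ := hnorm N hNx
  set q := Fintype.card F
  have hq2 : x ^ (q ^ 2) = x⁻¹ := by
    refine eq_inv_of_mul_eq_one_left ?_
    rw [← pow_succ]
    exact orderOf_dvd_iff_pow_eq_one.1 (hx ▸ hd)
  have hq4 : ∀ i, x ^ (q ^ (4 + i)) = x ^ (q ^ i) := fun i => by
    have h4 : x ^ (q ^ 4) = x := by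
      rw [show q ^ 4 = q ^ 2 * q ^ 2 by ring, pow_mul, hq2, inv_pow, hq2, inv_inv]
    rw [pow_add, pow_mul, h4]
  have hj0 : j ≠ 0 := by
    rintro rfl
    rw [pow_zero, pow_one] at hNj
    have hNU : N ∈ U := Subgroup.mem_centralizer_singleton_iff.2 <| by
      calc N * x = N * x * N⁻¹ * N := by group
        _ = x * N := by rw [hNj]
    exact hNc (Subgroup.mem_centralizer_iff.2 fun u hu => hcomm u (hPU u hu) N hNU)
  obtain ⟨g, hg⟩ : ∃ g, g * x * g⁻¹ = x⁻¹ := by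
    have hsq : N * N * x * (N * N)⁻¹ = x ^ (q ^ (j + j)) := by
      calc N * N * x * (N * N)⁻¹ = N * (N * x * N⁻¹) * N⁻¹ := by group
        _ = (N * x * N⁻¹) ^ (q ^ j) := by rw [conj_pow, hNj]
        _ = _ := by rw [hNj, ← pow_mul, ← pow_add]
    interval_cases j
    · exact absurd rfl hj0
    · exact ⟨N * N, hsq.trans hq2⟩
    · exact ⟨N, hNj.trans hq2⟩
    · exact ⟨N * N, hsq.trans ((hq4 2).trans hq2)⟩
  have hg2 : g * g ∈ U := Subgroup.mem_centralizer_singleton_iff.2 <| by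
    calc g * g * x = g * (g * x * g⁻¹) * g⁻¹ * (g * g) := by group
      _ = (g * x * g⁻¹)⁻¹ * (g * g) := by rw [hg, ← conj_inv, hg]
      _ = x * (g * g) := by rw [hg, inv_inv]
  set o := Nat.card U
  have hodd : Odd o := by
    refine Odd.of_dvd_nat ?_ hUdvd
    exact ((q_facts hF hm).2.1.pow_of_ne_zero two_ne_zero).add_one
  obtain ⟨i, hi⟩ := hodd
  have ht2 : g ^ o * g ^ o = 1 := by
    rw [← pow_add, ← two_mul, pow_mul, pow_two]
    exact congrArg Subtype.val (pow_card_eq_one' (x := (⟨g * g, hg2⟩ : U)))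
  have hinv : g ^ o * x * (g ^ o)⁻¹ = x⁻¹ := by
    have hgi : ∀ n, g ^ (2 * n) * x * (g ^ (2 * n))⁻¹ = x := fun n => by
      rw [pow_mul, pow_two, Subgroup.mem_centralizer_singleton_iff.1 (pow_mem hg2 n), mul_inv_cancel_right]
    rw [hi, pow_succ', mul_inv_rev,
      show g * g ^ (2 * i) * x * ((g ^ (2 * i))⁻¹ * g⁻¹) = g * (g ^ (2 * i) * x * (g ^ (2 * i))⁻¹) * g⁻¹
        by group, hgi, hg]
  refine ⟨g ^ o, x, ht2, fun h => ?_, hx, hinv⟩
  rw [h, one_mul, inv_one, mul_one] at hinv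
  have h2 : x ^ 2 = 1 := by
    rw [pow_two]
    nth_rewrite 2 [hinv]
    exact mul_inv_cancel x
  have := Nat.le_of_dvd two_pos (hx ▸ orderOf_dvd_of_pow_eq_one h2)
  have := hℓ.two_le
  omega

/-- Involutory automorphisms are inner. -/
theorem inner_of_invol (φ : MulAut (Cfsg.Sz F m)) (h : φ * φ = 1) : ∃ g, φ = MulAut.conj g := by
  have hc := Small.SuzukiAut.card_out hF hm
  have h1 : (QuotientGroup.mk' (Cfsg.Inn (Cfsg.Sz F m)) φ : Cfsg.Out (Cfsg.Sz F m)) ^ 2 = 1 := by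
    rw [pow_two, ← map_mul, h, map_one]
  have h2 := Nat.eq_one_of_dvd_coprimes (show Nat.Coprime 2 (2 * m + 1) by simp)
    (orderOf_dvd_of_pow_eq_one h1) (hc ▸ orderOf_dvd_natCard _)
  obtain ⟨g, hg⟩ := (QuotientGroup.eq_one_iff φ).1 (orderOf_eq_one_iff.1 h2)
  exact ⟨g, hg.symm⟩

/-- An elementary subgroup and one of its involutions. -/
theorem gain_element (C : Subgroup (Cfsg.Sz F m)) (hC : ∀ c ∈ C, c * c = 1)
    {a : Cfsg.Sz F m} (ha : a ∈ C) (ha1 : a ≠ 1) :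
    ∃ (ℓ : ℕ) (r : Cfsg.Sz F m), ℓ.Prime ∧ ℓ ≠ 2 ∧ orderOf r = ℓ ∧ a * r * a⁻¹ = r⁻¹ ∧
      ∀ d : ℕ, 0 < d → ℓ ∣ 2 ^ d - 1 → Nat.card C ^ 4 ≤ 2 ^ d := by
  classical
  haveI : Fact (Nat.Prime 2) := ⟨Nat.prime_two⟩
  set n := 2 * m + 1 with hn
  obtain ⟨ℓ, hℓ, hdvd, hmin⟩ := Cfsg.Agent.S2904.result 2 (4 * n) (by norm_num) (by omega)
    (fun h => by omega) (fun h => by omega)
  have hd : ℓ ∣ Fintype.card F ^ 2 + 1 := by
    rw [hF, ← pow_mul]
    have e : 2 ^ (4 * n) - 1 = (2 ^ (n * 2) + 1) * (2 ^ (n * 2) - 1) := by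
      rw [← Nat.sq_sub_sq, one_pow, ← pow_mul]
      ring_nf
    rw [e] at hdvd
    exact (hℓ.dvd_mul.1 hdvd).resolve_right (hmin _ (by omega) (by omega))
  obtain ⟨t, x, ht, ht1, hx, hinv⟩ := exists_real hF hm hℓ hd
  obtain ⟨g, hg⟩ := invol_conj hF hm ht (hC a ha) ht1 ha1
  refine ⟨ℓ, g * x * g⁻¹, hℓ, ((q_facts hF hm).2.2.2 ℓ hℓ hd).1, ?_, ?_, fun d hd0 hdd => ?_⟩
  · rw [← MulAut.conj_apply, MulEquiv.orderOf_eq, hx]
  · rw [← hg, show g * t * g⁻¹ * (g * x * g⁻¹) * (g * t * g⁻¹)⁻¹ = g * (t * x * t⁻¹) * g⁻¹ by group,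
      hinv]
    group
  · have h4 : 4 * n ≤ d := by
      by_contra hlt
      exact hmin d hd0 (by omega) hdd
    have hCp : IsPGroup 2 C := fun c => ⟨1, Subtype.ext (by
      rw [pow_one, SubgroupClass.coe_pow, pow_two]; exact hC c c.2)⟩
    obtain ⟨P, hP⟩ := hCp.exists_le_sylow
    obtain ⟨u, hu⟩ := Small.SuzukiFacts.exists_conj_uSub hF hm P
    have hle : C ≤ (zSub (m := m) hF).map (MulAut.conj u).toMonoidHom := by
      intro c hc
      have h1 : c ∈ (uSub (m := m) hF).map (MulAut.conj u).toMonoidHom := hu ▸ hP hc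
      obtain ⟨w, hw, rfl⟩ := h1
      refine ⟨w, (Small.SuzukiAut.mem_zSub_iff hF w).2 ⟨hw, (MulAut.conj u).injective ?_⟩, rfl⟩
      rw [map_mul, map_one]
      exact hC _ hc
    have hcard : Nat.card C ≤ 2 ^ n := by
      refine (Subgroup.card_le_of_le hle).trans (le_of_eq ?_)
      rw [Subgroup.card_map_of_injective (f := (MulAut.conj u).toMonoidHom) (MulAut.conj u).injective,
        card_zSub hF, hF]
    calc Nat.card C ^ 4 ≤ (2 ^ n) ^ 4 := Nat.pow_le_pow_left hcard 4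
      _ = 2 ^ (4 * n) := by rw [← pow_mul, mul_comm]
      _ ≤ 2 ^ d := Nat.pow_le_pow_right (by norm_num) h4

end Cfsg.Agent.Solv.OffGain
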