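import Cfsg.Agent.Lib.Solv.OffenderGain.Fix
import Cfsg.Agent.Lib.Solv.OffenderGain.Components
import Cfsg.Agent.Lib.Solv.OffenderGain.Suzuki
import Cfsg.Agent.Lib.Solv.OffenderGain.LTwo
import Cfsg.Agent.Lib.Solv.Generation
import Cfsg.Agent.Lib.Solv.SFourBig
import Cfsg.Agent.Lib.Solv.Amalgam.SymThree
import Cfsg.Agent.Lib.LocalEven.GFitAction
import Cfsg.Agent.Lib.Small.SimpleOrderTools
import Cfsg.Agent.Lib.Classical.Dickson.PGLMax
import Cfsg.Prelude.Def_LocalEven

/-!
An elementary abelian 2-group acting on an elementary abelian 2-group inside a group without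
sections `S₃` and with composition factors Suzuki or `L₂(3^odd)` loses the square of its order
in fixed points.
-/

set_option autoImplicit false
set_option linter.style.haveILetI false
set_option linter.unusedSectionVars false

namespace Cfsg.Agent.Solv.OffGain

universe u v

variable {X : Type u} [Group X] [Finite X] {V : Type v} [CommGroup V] [Finite V] (φ : X →* MulAut V)

theorem involves_three {r a : X} (hr : orderOf r = 3) (ha : a * a = 1) (hinv : a * r * a⁻¹ = r⁻¹) :
    Cfsg.Involves (Equiv.Perm (Fin 3)) X := by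
  have hr3 : ∀ i j : ℕ, i % 3 = j % 3 → r ^ i = r ^ j := fun i j h => by
    rw [← pow_mod_orderOf r i, ← pow_mod_orderOf r j, hr, h]
  have hmove : ∀ i : ℕ, r ^ i * a = a * r ^ (2 * i) := fun i => by
    have h1 : a * r ^ i * a⁻¹ = r ^ (2 * i) := by
      rw [← conj_pow, hinv, pow_mul]
      congr 1
      refine inv_eq_of_mul_eq_one_right ?_
      rw [← pow_succ', show 2 + 1 = orderOf r by omega, pow_orderOf_eq_one]
    have ha' : a⁻¹ = a := inv_eq_of_mul_eq_one_right ha
    rw [← h1, ha', show a * (a * r ^ i * a) = (a * a) * (r ^ i * a) by group, ha, one_mul]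
  have hmove' : ∀ i j : ℕ, r ^ i * (a * r ^ j) = a * r ^ (2 * i + j) := fun i j => by
    rw [← mul_assoc, hmove, mul_assoc, ← pow_add]
  let f : DihedralGroup 3 → X := fun
    | DihedralGroup.r i => r ^ i.val
    | DihedralGroup.sr i => a * r ^ i.val
  have hf : ∀ x y, f (x * y) = f x * f y := by
    intro x y
    rcases x with i | i <;> rcases y with j | j
    · show r ^ (i + j).val = r ^ i.val * r ^ j.val
      rw [← pow_add]
      exact hr3 _ _ (by rw [ZMod.val_add]; omega)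
    · show a * r ^ (j - i).val = r ^ i.val * (a * r ^ j.val)
      rw [hmove']
      congr 1
      exact hr3 _ _ (by revert i j; decide)
    · show a * r ^ (i + j).val = a * r ^ i.val * r ^ j.val
      rw [mul_assoc, ← pow_add]
      congr 1
      exact hr3 _ _ (by rw [ZMod.val_add]; omega)
    · show r ^ (j - i).val = a * r ^ i.val * (a * r ^ j.val)
      rw [mul_assoc, hmove', ← mul_assoc, ha, one_mul]
      exact hr3 _ _ (by revert i j; decide)
  let F : DihedralGroup 3 →* X := MonoidHom.mk' f hf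
  have hinj : Function.Injective F := by
    rw [← MonoidHom.ker_eq_bot_iff, Subgroup.eq_bot_iff_forall]
    rintro (i | i) hi
    · rw [MonoidHom.mem_ker] at hi
      have h1 : orderOf r ∣ i.val := orderOf_dvd_of_pow_eq_one hi
      rw [hr] at h1
      have := ZMod.val_lt i
      have h2 : i.val = 0 := by omega
      rw [(ZMod.val_eq_zero i).1 h2]
      rfl
    · rw [MonoidHom.mem_ker] at hi
      have h1 : a * r ^ i.val = 1 := hi
      have h2 : a * r * a⁻¹ = r := by
        rw [eq_inv_of_mul_eq_one_left h1]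
        group
      rw [hinv] at h2
      have h3 : r ^ 2 = 1 := by rw [pow_two]; nth_rewrite 2 [← h2]; exact mul_inv_cancel r
      have := Nat.le_of_dvd two_pos (hr ▸ orderOf_dvd_of_pow_eq_one h3)
      omega
  obtain ⟨e⟩ := Amalgam.dihThree_iso
  exact Fusion.involves_of_surjective
    (e.symm.toMonoidHom.comp (MonoidHom.ofInjective hinj).symm.toMonoidHom)
    (e.symm.surjective.comp (MonoidHom.ofInjective hinj).symm.surjective)

theorem inv_self {A : Subgroup X} (hA : Cfsg.IsElementaryAbelian 2 A) {x : X} (hx : x ∈ A) :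
    x * x = 1 := by rw [← pow_two]; exact hA.2 x hx

theorem comm_mem {A : Subgroup X} (hA : Cfsg.IsElementaryAbelian 2 A) {x y : X} (hx : x ∈ A)
    (hy : y ∈ A) : x * y = y * x := congrArg Subtype.val (hA.1.is_comm.comm ⟨x, hx⟩ ⟨y, hy⟩)

theorem elemAb_le {A B : Subgroup X} (hA : Cfsg.IsElementaryAbelian 2 A) (h : B ≤ A) :
    Cfsg.IsElementaryAbelian 2 B :=
  ⟨⟨⟨fun x y => Subtype.ext (comm_mem hA (h x.2) (h y.2))⟩⟩, fun b hb => hA.2 b (h hb)⟩

theorem isPGroup_elem {A : Subgroup X} (hA : Cfsg.IsElementaryAbelian 2 A) : IsPGroup 2 A :=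
  fun a => ⟨1, Subtype.ext (by rw [pow_one]; exact hA.2 a a.2)⟩

/-- An element of odd order, centralised or inverted by every member of `A`, inverted by one. -/
structure Good (A : Subgroup X) (r : X) : Prop where
  ne : r ≠ 1
  odd : Odd (orderOf r)
  eig : ∀ x ∈ A, x * r * x⁻¹ = r ∨ x * r * x⁻¹ = r⁻¹
  inv : ∃ a ∈ A, a * r * a⁻¹ = r⁻¹

/-- Complements in elementary abelian groups. -/
theorem exists_compl {A D : Subgroup X} (hA : Cfsg.IsElementaryAbelian 2 A) (hD : D ≤ A) :
    ∃ T ≤ A, (∀ x ∈ T, x ∈ D → x = 1) ∧ ∀ x ∈ A, ∃ d ∈ D, ∃ t ∈ T, x = d * t := by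
  classical
  obtain ⟨T, ⟨hTA, hTD⟩, hmax⟩ := Set.exists_max_image
    {T : Subgroup X | T ≤ A ∧ ∀ x ∈ T, x ∈ D → x = 1} (fun T : Subgroup X => Nat.card T)
    (Set.toFinite _) ⟨⊥, bot_le, fun x hx _ => Subgroup.mem_bot.1 hx⟩
  refine ⟨T, hTA, hTD, fun x hx => ?_⟩
  by_contra hne
  push Not at hne
  have hxT : x ∉ T := fun h => hne 1 (one_mem D) x h (by rw [one_mul])
  let U : Subgroup X :=
    { carrier := {y | y ∈ T ∨ ∃ t ∈ T, y = t * x}
      one_mem' := Or.inl (one_mem T)
      mul_mem' := by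
        rintro y z (hy | ⟨s, hs, rfl⟩) (hz | ⟨t, ht, rfl⟩)
        · exact Or.inl (mul_mem hy hz)
        · exact Or.inr ⟨y * t, mul_mem hy ht, by rw [mul_assoc]⟩
        · exact Or.inr ⟨s * z, mul_mem hs hz, by rw [mul_assoc, comm_mem hA hx (hTA hz), ← mul_assoc]⟩
        · refine Or.inl ?_
          rw [show s * x * (t * x) = s * ((x * t) * x) by group, comm_mem hA hx (hTA ht),
            mul_assoc t, inv_self hA hx, mul_one]
          exact mul_mem hs ht
      inv_mem' := by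
        rintro y (hy | ⟨t, ht, rfl⟩)
        · exact Or.inl (inv_mem hy)
        · refine Or.inr ⟨t⁻¹, inv_mem ht, ?_⟩
          rw [mul_inv_rev, inv_eq_of_mul_eq_one_right (inv_self hA hx), comm_mem hA hx (inv_mem (hTA ht))] }
  have hTU : T < U := lt_of_le_of_ne (fun y hy => Or.inl hy) fun e => hxT (e ▸ (Or.inr ⟨1, one_mem T, (one_mul x).symm⟩ : x ∈ U))
  have hUA : U ≤ A := by
    rintro y (hy | ⟨t, ht, rfl⟩)
    · exact hTA hy
    · exact mul_mem (hTA ht) hx
  have hUD : ∀ y ∈ U, y ∈ D → y = 1 := by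
    rintro y (hy | ⟨t, ht, rfl⟩) hyD
    · exact hTD y hy hyD
    · exfalso
      refine hne (t * x) hyD t⁻¹ (inv_mem ht) ?_
      rw [comm_mem hA (hTA ht) hx, mul_inv_cancel_right]
  exact absurd (hmax U ⟨hUA, hUD⟩)
    (not_le.2 (lt_of_le_of_ne (Subgroup.card_le_of_le hTU.le) fun e =>
      hTU.ne (Subgroup.eq_of_le_of_card_ge hTU.le e.ge)))

variable (hV : ∀ v : V, v * v = 1) (hφ : Function.Injective φ)
  (hS3 : ¬ Cfsg.Involves (Equiv.Perm (Fin 3)) X)

/-- An element `r` of prime order inverted by `c ∈ A` and centralised by the subgroup `B` of `A`, with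
a large commutator on the fixed points of `B` compared to the index of `B` in `A`. -/
def Wit (A : Subgroup X) : Prop :=
  ∃ (B : Subgroup X) (c r : X) (ℓ n : ℕ), B ≤ A ∧ c ∈ A ∧ Nat.card B < Nat.card A ∧ Pair φ B c r ℓ ∧
    Nat.card A ≤ Nat.card B * n ∧
    ∀ j : ℕ, (fixV φ ((B : Set X) ∪ {r})).relIndex (fixV φ (B : Set X)) ≤ (2 ^ j) ^ 2 → n ^ 2 ≤ 2 ^ j

/-- One step of the descent. -/
def Step (A : Subgroup X) : Prop :=
  ∃ B : Subgroup X, B ≤ A ∧ Nat.card B < Nat.card A ∧
    Nat.card A ^ 2 * Nat.card ↥(fixV φ (A : Set X)) ≤ Nat.card B ^ 2 * Nat.card ↥(fixV φ (B : Set X))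

include hV hφ hS3 in
theorem step_of_good {A : Subgroup X} (hA : Cfsg.IsElementaryAbelian 2 A) {r₀ : X} (h : Good A r₀) :
    Wit φ A := by
  classical
  obtain ⟨a, ha, hainv⟩ := h.inv
  obtain ⟨ℓ, hℓ, hℓd⟩ := Nat.exists_prime_and_dvd (fun e => h.ne (orderOf_eq_one_iff.1 e))
  set r := r₀ ^ (orderOf r₀ / ℓ) with hr
  have hro : orderOf r = ℓ := orderOf_pow_orderOf_div (orderOf_pos r₀).ne' hℓd
  have hℓ2 : ℓ ≠ 2 := by
    rintro rfl
    exact Nat.not_even_iff_odd.2 h.odd (even_iff_two_dvd.2 hℓd)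
  have hinv : a * r * a⁻¹ = r⁻¹ := by rw [hr, ← conj_pow, hainv, inv_pow]
  have hℓ3 : ℓ ≠ 3 := by
    rintro rfl
    exact hS3 (involves_three hro (inv_self hA ha) hinv)
  have hr1 : r ≠ 1 := fun e => by rw [e, orderOf_one] at hro; exact hℓ.ne_one hro.symm
  set B := A ⊓ Subgroup.centralizer ({r} : Set X) with hB
  have hBA : B ≤ A := inf_le_left
  have hBr : ∀ b ∈ B, b * r = r * b := fun b hb => Subgroup.mem_centralizer_singleton_iff.1 hb.2
  have haB : a ∉ B := fun hh => by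
    have h1 : a * r * a⁻¹ = r := by rw [hBr a hh, mul_inv_cancel_right]
    rw [hinv] at h1
    have h2 : r ^ 2 = 1 := by rw [pow_two]; nth_rewrite 2 [← h1]; exact mul_inv_cancel r
    have := Nat.le_of_dvd two_pos (hro ▸ orderOf_dvd_of_pow_eq_one h2)
    have := hℓ.two_le
    omega
  have hfix : ∀ x ∈ A, x * r * x⁻¹ = r → x ∈ B := fun x hx hxr => ⟨hx,
    Subgroup.mem_centralizer_singleton_iff.2 <| by
      calc x * r = x * r * x⁻¹ * x := by group
        _ = r * x := by rw [hxr]⟩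
  have hsplit : ∀ x ∈ A, x ∈ B ∨ x * a ∈ B := fun x hx => by
    rcases h.eig x hx with e | e
    · exact Or.inl (hfix x hx (by rw [hr, ← conj_pow, e]))
    · refine Or.inr (hfix _ (mul_mem hx ha) ?_)
      rw [show x * a * r * (x * a)⁻¹ = x * (a * r * a⁻¹) * x⁻¹ by group, hinv, hr, ← inv_pow, ← conj_pow,
        ← conj_inv, e, inv_inv]
  have hidx : (B.subgroupOf A).index = 2 := by
    rw [Subgroup.index_eq_two_iff]
    refine ⟨⟨a, ha⟩, fun b => ?_⟩
    simp only [Subgroup.mem_subgroupOf, Subgroup.coe_mul]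
    rcases hsplit b b.2 with hb | hb
    · exact Or.inr ⟨hb, fun hh => haB (by simpa using mul_mem (inv_mem hb) hh)⟩
    · exact Or.inl ⟨hb, fun hh => haB (by simpa using mul_mem (inv_mem hh) hb)⟩
  have hcard : Nat.card B * 2 = Nat.card A := by
    rw [← hidx, ← Nat.card_congr (Subgroup.subgroupOfEquivOfLe hBA).toEquiv]
    exact Subgroup.card_mul_index _
  have hPair : Pair φ B a r ℓ :=
    { two := isPGroup_elem (elemAb_le hA hBA)
      prime := hℓ
      ne_two := hℓ2
      ord := hro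
      cent := hBr
      centA := fun b hb => comm_mem hA (hBA hb) ha
      inv := hinv
      nontriv := fun e => hr1 (hφ (e.trans (map_one φ).symm)) }
  refine ⟨B, a, r, ℓ, 2, hBA, ha, by have := Nat.card_pos (α := B); omega, hPair, hcard.ge,
    fun j hj => ?_⟩
  have h8 : 8 ≤ (2 ^ j) ^ 2 := (hPair.eight_le hV hℓ3).trans hj
  have hj2 : 2 ≤ j := by
    by_contra hlt
    have : (2 ^ j) ^ 2 ≤ (2 ^ 1) ^ 2 :=
      Nat.pow_le_pow_left (Nat.pow_le_pow_right (by norm_num) (by omega)) 2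
    omega
  exact (show 2 ^ 2 ≤ 2 ^ j from Nat.pow_le_pow_right (by norm_num) hj2)

/-- Action on a component outside the Fitting subgroup: the setting. -/
theorem exists_component {A : Subgroup X} (hO : Cfsg.pCore 2 X = ⊥)
    (hA : Cfsg.IsElementaryAbelian 2 A) {a : X} (ha : a ∈ A) (ha1 : a ≠ 1)
    (hF : ∀ x ∈ Cfsg.fittingSubgroup X, a * x = x * a) :
    ∃ K : Subgroup X, Cfsg.IsComponent K ∧ ¬ ∀ y ∈ K, a * y = y * a := by
  haveI : Fact (Nat.Prime 2) := ⟨Nat.prime_two⟩
  by_contra hno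
  push Not at hno
  set E := Cfsg.generalizedFittingSubgroup X with hE
  have haC : a ∈ Subgroup.centralizer (E : Set X) := by
    have h1 : E ≤ Subgroup.centralizer ({a} : Set X) := by
      rw [hE, Cfsg.generalizedFittingSubgroup]
      refine sup_le (sSup_le fun K hK y hy => ?_) fun y hy => ?_
      · exact Subgroup.mem_centralizer_singleton_iff.2 (hno K hK y hy).symm
      · exact Subgroup.mem_centralizer_singleton_iff.2 (hF y hy).symm
    exact Subgroup.mem_centralizer_iff.2 fun y hy => Subgroup.mem_centralizer_singleton_iff.1 (h1 hy)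
  set Z := Subgroup.centralizer (E : Set X)
  haveI : E.Normal := hE ▸ Local.gfit_normal
  haveI : Z.Normal := centralizer_normal_of_normal E
  have hZE : Z ≤ E := centralizer_gfit_le
  letI : CommGroup Z :=
    { (inferInstance : Group Z) with
      mul_comm := fun x y => Subtype.ext ((Subgroup.mem_centralizer_iff.1 x.2 _ (hZE y.2)).symm) }
  have hZF : Z ≤ Cfsg.fittingSubgroup X := normal_le_fitting inferInstance
  have hco := LocalEven.GFitAct.fitting_coprime (p := 2) hO
  have h2 : orderOf a = 2 := orderOf_eq_prime (hA.2 a ha) ha1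
  have h3 : orderOf a ∣ Nat.card ↥(Cfsg.fittingSubgroup X) :=
    Subgroup.orderOf_dvd_natCard _ (hZF haC)
  rw [h2] at h3
  exact absurd (Nat.eq_one_of_dvd_coprimes hco h3 dvd_rfl) (by norm_num)

theorem comm_of_conj_eq {a y : X} (h : a * y * a⁻¹ = y) : a * y = y * a :=
  calc a * y = a * y * a⁻¹ * a := by group
    _ = y * a := by rw [h]

theorem conj_eq_of_comm {a y : X} (h : a * y = y * a) : a * y * a⁻¹ = y := by
  rw [h, mul_inv_cancel_right]

theorem inverted_ne_fixed {a r : X} (hr : r ≠ 1) (hodd : Odd (orderOf r)) (hi : a * r * a⁻¹ = r⁻¹) :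
    a * r * a⁻¹ ≠ r := fun h => by
  rw [hi] at h
  have h2 : r ^ 2 = 1 := by rw [pow_two]; nth_rewrite 2 [← h]; exact mul_inv_cancel r
  rcases (Nat.dvd_prime Nat.prime_two).1 (orderOf_dvd_of_pow_eq_one h2) with e | e
  · exact hr (orderOf_eq_one_iff.1 e)
  · rw [e] at hodd
    exact absurd hodd (by decide)

/-- A good element coming from the Fitting subgroup. -/
theorem good_of_fitting {A : Subgroup X} (hO : Cfsg.pCore 2 X = ⊥)
    (hA : Cfsg.IsElementaryAbelian 2 A) {a : X} (ha : a ∈ A)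
    (hF : ¬ ∀ x ∈ Cfsg.fittingSubgroup X, a * x = x * a) : ∃ r, Good A r := by
  haveI : Fact (Nat.Prime 2) := ⟨Nat.prime_two⟩
  set F := Cfsg.fittingSubgroup X
  haveI : F.Normal := fittingSubgroup_normal
  have hco := LocalEven.GFitAct.fitting_coprime (p := 2) hO
  obtain ⟨k, hk⟩ := IsPGroup.iff_card.1 (isPGroup_elem hA)
  have hgen := gen_eq A F hA.1 (Subgroup.normalizer_eq_top (H := F) ▸ le_top)
    (hk ▸ (Nat.Coprime.pow_left k hco.symm))
  obtain ⟨B, hB, x, hx, hax⟩ : ∃ B ∈ CycQuot A, ∃ x ∈ F ⊓ Subgroup.centralizer (B : Set X),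
      ¬ a * x = x * a := by
    by_contra hno
    push Not at hno
    refine hF fun x hx => ?_
    have hle : (⨆ B ∈ CycQuot A, F ⊓ Subgroup.centralizer (B : Set X)) ≤
        Subgroup.centralizer ({a} : Set X) :=
      iSup₂_le fun B hB y hy => Subgroup.mem_centralizer_singleton_iff.2 (hno B hB y hy).symm
    exact (Subgroup.mem_centralizer_singleton_iff.1 (hle (hgen.symm ▸ hx))).symm
  obtain ⟨hBA, a₁, ha₁, hsup⟩ := hB
  have hxB : ∀ b ∈ B, b * x * b⁻¹ = x := fun b hb =>
    conj_eq_of_comm (Subgroup.mem_centralizer_iff.1 hx.2 b hb)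
  set y := x⁻¹ * (a * x * a⁻¹) with hy
  have hyF : y ∈ F := mul_mem (inv_mem hx.1) (Subgroup.Normal.conj_mem inferInstance x hx.1 a)
  have hyB : ∀ b ∈ B, b * y * b⁻¹ = y := fun b hb => by
    rw [hy, show b * (x⁻¹ * (a * x * a⁻¹)) * b⁻¹ = (b * x * b⁻¹)⁻¹ * ((b * a) * x * (b * a)⁻¹) by group,
      comm_mem hA (hBA hb) ha, show a * b * x * (a * b)⁻¹ = a * (b * x * b⁻¹) * a⁻¹ by group, hxB b hb]
  have hyinv : a * y * a⁻¹ = y⁻¹ := by
    rw [hy, show a * (x⁻¹ * (a * x * a⁻¹)) * a⁻¹ = (a * x * a⁻¹)⁻¹ * ((a * a) * x * (a * a)⁻¹) by group,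
      inv_self hA ha]
    group
  have hy1 : y ≠ 1 := fun e => hax (comm_of_conj_eq (inv_mul_eq_one.1 e).symm)
  have hyodd : Odd (orderOf y) := by
    refine Nat.not_even_iff_odd.1 fun hev => ?_
    have h1 := (even_iff_two_dvd.1 hev).trans (Subgroup.orderOf_dvd_natCard _ hyF)
    exact absurd (Nat.eq_one_of_dvd_coprimes hco h1 dvd_rfl) (by norm_num)
  have hBn : Subgroup.zpowers a₁ ≤ Subgroup.normalizer (B : Set X) := by
    refine Subgroup.zpowers_le.2 (Subgroup.mem_normalizer_iff.2 fun z => ⟨fun hz => ?_, fun hz => ?_⟩)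
    · rwa [conj_eq_of_comm (comm_mem hA ha₁ (hBA hz))]
    · have hzA : z ∈ A := by
        have := mul_mem (mul_mem (inv_mem ha₁) (hBA hz)) ha₁
        simpa [mul_assoc] using this
      rwa [conj_eq_of_comm (comm_mem hA ha₁ hzA)] at hz
  have hsplit : ∀ z ∈ A, z * y * z⁻¹ = y ∨ z * y * z⁻¹ = a₁ * y * a₁⁻¹ := by
    intro z hz
    rw [← hsup, ← SetLike.mem_coe,
      Subgroup.coe_mul_of_right_le_normalizer_left B (Subgroup.zpowers a₁) hBn] at hz
    obtain ⟨b, hb, _, ⟨j, rfl⟩, rfl⟩ := hz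
    rcases Int.even_or_odd j with ⟨i, rfl⟩ | ⟨i, rfl⟩
    · left
      show b * a₁ ^ (i + i) * y * (b * a₁ ^ (i + i))⁻¹ = y
      rw [← two_mul, zpow_mul, zpow_two, inv_self hA ha₁, one_zpow, mul_one, hyB b hb]
    · right
      show b * a₁ ^ (2 * i + 1) * y * (b * a₁ ^ (2 * i + 1))⁻¹ = a₁ * y * a₁⁻¹
      rw [zpow_add, zpow_mul, zpow_two, inv_self hA ha₁, one_zpow, one_mul, zpow_one,
        comm_mem hA (hBA hb) ha₁, show a₁ * b * y * (a₁ * b)⁻¹ = a₁ * (b * y * b⁻¹) * a₁⁻¹ by group,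
        hyB b hb]
  have ha₁y : a₁ * y * a₁⁻¹ = y⁻¹ := by
    rcases hsplit a ha with e | e
    · exact absurd e (inverted_ne_fixed hy1 hyodd hyinv)
    · rw [← e, hyinv]
  exact ⟨y, hy1, hyodd, fun z hz => (hsplit z hz).imp_right fun e => e.trans ha₁y, a, ha, hyinv⟩

/-- The components: the models. -/
theorem component_model (hK : Cfsg.IsCompositionKGroupWith Cfsg.IsSuzukiOrPSL2OddPowerThree X)
    {K : Subgroup X} (hc : Cfsg.IsComponent K) :
    (∃ (F : Type) (_ : Field F) (_ : Fintype F) (m : ℕ), 1 ≤ m ∧ Fintype.card F = 2 ^ (2 * m + 1) ∧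
      ∃ π : K →* Cfsg.Sz F m, Function.Surjective π ∧ π.ker = Subgroup.center K) ∨
    (∃ (F : Type) (_ : Field F) (_ : Fintype F) (n : ℕ), 1 ≤ n ∧ Fintype.card F = 3 ^ (2 * n + 1) ∧
      ∃ π : K →* Matrix.ProjectiveSpecialLinearGroup (Fin 2) F,
        Function.Surjective π ∧ π.ker = Subgroup.center K) := by
  have hqs := hc.2
  haveI := hqs.2
  have hnc : ¬ IsMulCommutative (K ⧸ Subgroup.center K) := fun h => by
    refine qs_center_ne_top hqs (top_le_iff.1 ?_)
    rw [← hqs.1.commutator_eq_top, commutator_def, Subgroup.commutator_le]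
    intro x _ y _
    rw [← QuotientGroup.eq_one_iff, ← QuotientGroup.mk'_apply, map_commutatorElement,
      commutatorElement_eq_one_iff_mul_comm]
    exact h.is_comm.comm _ _
  rcases hK K hc.1 (Subgroup.center K) inferInstance hnc with
    ⟨F, i1, i2, m, hm, hF, ⟨e⟩⟩ | ⟨F, i1, i2, n, hF, ⟨e⟩⟩
  · obtain ⟨e'⟩ := Lie.Suzuki.lie_sz_equiv hF hm
    refine Or.inl ⟨F, i1, i2, m, hm, hF, (e.trans e'.symm).toMonoidHom.comp (QuotientGroup.mk' _),
      (e.trans e'.symm).surjective.comp (QuotientGroup.mk'_surjective _), ?_⟩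
    ext x
    simp [QuotientGroup.eq_one_iff]
  · have hn : 1 ≤ n := by
      rcases Nat.eq_zero_or_pos n with rfl | hn
      · exfalso
        haveI : IsSimpleGroup (Matrix.ProjectiveSpecialLinearGroup (Fin 2) F) := e.symm.isSimpleGroup
        have hncP : ¬ IsMulCommutative (Matrix.ProjectiveSpecialLinearGroup (Fin 2) F) := fun h =>
          hnc ⟨⟨fun x y => e.injective (by rw [map_mul, map_mul]; exact h.is_comm.comm _ _)⟩⟩
        have h3 : (2 : F) ≠ 0 := two_ne hF
        have hcard := Classical.Dickson.card_P2 (F := F)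
        rw [Classical.Dickson.two_dvd_pred h3, hF] at hcard
        have h12 : Nat.card (Matrix.ProjectiveSpecialLinearGroup (Fin 2) F) = 12 := by norm_num at hcard ⊢; omega
        haveI : Fact (Nat.Prime 2) := ⟨Nat.prime_two⟩
        obtain ⟨S⟩ : Nonempty (Sylow 2 (Matrix.ProjectiveSpecialLinearGroup (Fin 2) F)) := inferInstance
        have hS4 : Nat.card (S : Subgroup (Matrix.ProjectiveSpecialLinearGroup (Fin 2) F)) = 4 := by
          obtain ⟨k, hk⟩ := IsPGroup.iff_card.1 S.2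
          have h5 := (S : Subgroup (Matrix.ProjectiveSpecialLinearGroup (Fin 2) F)).card_mul_index
          have h7 := S.not_dvd_index
          rw [hk, h12] at h5
          have h8 : k < 4 := by
            by_contra hlt
            have h9 : 2 ^ 4 ∣ 12 := (pow_dvd_pow 2 (not_lt.1 hlt)).trans (h5 ▸ dvd_mul_right _ _)
            norm_num at h9
          rw [hk]
          interval_cases k <;> omega
        have hidx : (S : Subgroup (Matrix.ProjectiveSpecialLinearGroup (Fin 2) F)).index = 3 := by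
          have h5 := (S : Subgroup (Matrix.ProjectiveSpecialLinearGroup (Fin 2) F)).card_mul_index
          rw [hS4, h12] at h5; omega
        obtain ⟨f, hf, hfA⟩ := Small.SimpleOrderTools.card_dvd_half_factorial hncP
          (S : Subgroup (Matrix.ProjectiveSpecialLinearGroup (Fin 2) F))
          (fun h => by rw [h, Subgroup.index_top] at hidx; omega)
        haveI : Nontrivial (Fin (S : Subgroup (Matrix.ProjectiveSpecialLinearGroup (Fin 2) F)).index) := by
          rw [hidx]; infer_instance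
        have h6 := Subgroup.card_dvd_of_le hfA
        rw [← Nat.card_congr (MonoidHom.ofInjective hf).toEquiv, h12, nat_card_alternatingGroup,
          Nat.card_eq_fintype_card, Fintype.card_fin, hidx] at h6
        norm_num [Nat.factorial] at h6
      · exact hn
    refine Or.inr ⟨F, i1, i2, n, hn, hF, e.toMonoidHom.comp (QuotientGroup.mk' _),
      e.surjective.comp (QuotientGroup.mk'_surjective _), ?_⟩
    ext x
    simp [QuotientGroup.eq_one_iff]

/-- An odd order lift. -/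
theorem odd_lift {K : Subgroup X} {M : Type*} [Group M] (π : K →* M) (hπ : Function.Surjective π)
    {x : M} (hx : Odd (orderOf x)) : ∃ r : K, π r = x ∧ Odd (orderOf (r : X)) := by
  let e := QuotientGroup.quotientKerEquivOfSurjective π hπ
  obtain ⟨r, hr, hodd⟩ := SFour.exists_odd_lift' π.ker (e.symm x) (by rwa [MulEquiv.orderOf_eq])
  refine ⟨r, ?_, by rwa [Subgroup.orderOf_coe]⟩
  have := congrArg e hr
  rwa [e.apply_symm_apply] at this

theorem cz_of_ker {K : Subgroup X} {M : Type*} [Group M] (π : K →* M)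
    (hker : π.ker = Subgroup.center K) {z : X} (hz : z ∈ K) (h : π ⟨z, hz⟩ = 1) : Cz K z := by
  refine ⟨hz, fun y hy => ?_⟩
  have h1 : (⟨z, hz⟩ : K) ∈ Subgroup.center K := hker ▸ h
  exact congrArg Subtype.val (Subgroup.mem_center_iff.1 h1 ⟨y, hy⟩)

theorem inv_of_prod {a r : X} (h : r * (a * r * a⁻¹) = 1) : a * r * a⁻¹ = r⁻¹ :=
  (inv_eq_of_mul_eq_one_right h).symm

include hV hφ hS3 in
theorem exists_wit (hO : Cfsg.pCore 2 X = ⊥)
    (hK : Cfsg.IsCompositionKGroupWith Cfsg.IsSuzukiOrPSL2OddPowerThree X)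
    {A : Subgroup X} (hA : Cfsg.IsElementaryAbelian 2 A) (hne : A ≠ ⊥) : Wit φ A := by
  classical
  haveI : Fact (Nat.Prime 2) := ⟨Nat.prime_two⟩
  by_cases hF : ∀ a ∈ A, ∀ x ∈ Cfsg.fittingSubgroup X, a * x = x * a
  swap
  · simp only [not_forall] at hF
    obtain ⟨a, ha, x, hx, hax⟩ := hF
    obtain ⟨r, hr⟩ := good_of_fitting hO hA ha fun h => hax (h x hx)
    exact step_of_good φ hV hφ hS3 hA hr
  obtain ⟨a₀, ha₀, ha₀1⟩ : ∃ a ∈ A, a ≠ 1 := by
    by_contra h
    push Not at h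
    exact hne ((Subgroup.eq_bot_iff_forall _).2 h)
  obtain ⟨K, hKc, hKa⟩ := exists_component hO hA ha₀ ha₀1 (hF a₀ ha₀)
  have hKz : ∀ x ∈ A, ∀ z, Cz K z → x * z * x⁻¹ = z := by
    intro x hx z hz
    refine conj_eq_of_comm (hF x hx z (center_component_le_fitting hKc ⟨⟨z, hz.1⟩, ?_, rfl⟩))
    exact Subgroup.mem_center_iff.2 fun y => Subtype.ext (hz.2 y y.2)
  -- an inverted element of odd order is not central
  have hnc : ∀ x ∈ A, ∀ z ∈ K, z ≠ 1 → Odd (orderOf z) → x * z * x⁻¹ = z⁻¹ →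
      ∃ y ∈ K, ¬ y * z = z * y := by
    intro x hx z hz hz1 hzo hzi
    by_contra h
    push Not at h
    exact inverted_ne_fixed hz1 hzo hzi (hKz x hx z ⟨hz, h⟩)
  set D := A ⊓ Subgroup.normalizer (K : Set X) with hD
  set D₀ := D ⊓ Subgroup.centralizer (K : Set X) with hD0
  have hDA : D ≤ A := inf_le_left
  have hD0fix : ∀ d ∈ D₀, ∀ y ∈ K, d * y * d⁻¹ = y := fun d hd y hy =>
    conj_eq_of_comm (Subgroup.mem_centralizer_iff.1 hd.2 y hy).symm
  by_cases hDD : D ≤ D₀
  · -- the component is moved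
    have ha₀D : a₀ ∉ D := fun h => hKa fun y hy => comm_of_conj_eq (hD0fix a₀ (hDD h) y hy)
    set D' := D ⊔ Subgroup.zpowers a₀ with hD'
    have hD'A : D' ≤ A := sup_le hDA (Subgroup.zpowers_le.2 ha₀)
    obtain ⟨T, hTA, hTD, hAT⟩ := exists_compl hA hD'A
    have hTN : ∀ t ∈ T, t ∈ Subgroup.normalizer (K : Set X) → t = 1 := fun t ht htn =>
      hTD t ht (le_sup_left (b := Subgroup.zpowers a₀) ⟨hTA ht, htn⟩)
    obtain ⟨δ, hδT, hδc, hδeq, hδinj⟩ := exists_spread hKc T hTN
    -- a non-central element of odd order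
    obtain ⟨y, hyodd, hyc⟩ : ∃ y : K, Odd (orderOf (y : X)) ∧ ¬ ∀ w ∈ K, w * y = y * w := by
      by_contra hno
      push Not at hno
      have hp : IsPGroup 2 (K ⧸ Subgroup.center K) := by
        refine fun g => ?_
        obtain ⟨g, rfl⟩ := QuotientGroup.mk_surjective g
        obtain ⟨t, n, hn, hgn⟩ := Nat.exists_eq_pow_mul_and_not_dvd (orderOf_pos g).ne' 2 (by norm_num)
        refine ⟨t, (QuotientGroup.eq_one_iff _).2 (Subgroup.mem_center_iff.2 fun w => Subtype.ext ?_)⟩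
        refine hno (g ^ 2 ^ t) ?_ w w.2
        rw [Subgroup.orderOf_coe]
        refine Odd.of_dvd_nat (Nat.odd_iff.2 (Nat.two_dvd_ne_zero.1 hn)) (orderOf_dvd_of_pow_eq_one ?_)
        rw [← pow_mul, ← hgn, pow_orderOf_eq_one]
      haveI := hKc.2.2
      haveI := hp.isNilpotent
      haveI := hKc.2.1
      exact Group.IsPerfect.not_isSolvable (G := K ⧸ Subgroup.center K) inferInstance
    set u := δ y with hu
    have hua : Odd (orderOf u) := Odd.of_dvd_nat (by rwa [← Subgroup.orderOf_coe]) (orderOf_map_dvd δ y)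
    have ha2 : a₀ * a₀ = 1 := inv_self hA ha₀
    have ha₀' : a₀⁻¹ = a₀ := inv_eq_of_mul_eq_one_right ha2
    set w := a₀ * u * a₀⁻¹ with hw
    -- images of `K` under different elements commute
    have hKK : ∀ s t : X, t⁻¹ * s ∉ Subgroup.normalizer (K : Set X) → ∀ p ∈ K, ∀ q ∈ K,
        Commute (s * p * s⁻¹) (t * q * t⁻¹) := by
      intro s t hst p hp q hq
      have hne' : K.map (MulAut.conj s).toMonoidHom ≠ K.map (MulAut.conj t).toMonoidHom := by
        intro e
        refine hst (Subgroup.mem_normalizer_iff.2 fun z => ?_)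
        have e' : ∀ v, v ∈ K.map (MulAut.conj s).toMonoidHom ↔ v ∈ K.map (MulAut.conj t).toMonoidHom :=
          fun v => by rw [e]
        simp only [Subgroup.mem_map_equiv, MulAut.conj_symm_apply] at e'
        rw [show t⁻¹ * s * z * (t⁻¹ * s)⁻¹ = t⁻¹ * (s * z * s⁻¹) * t by group, ← e',
          show s⁻¹ * (s * z * s⁻¹) * s = z by group]
      have h1 := components_commute (component_conj hKc s) (component_conj hKc t) hne'
      exact (Subgroup.mem_centralizer_iff.1 (Subgroup.commutator_eq_bot_iff_le_centralizer.1 h1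
        ⟨p, hp, rfl⟩) _ ⟨q, hq, rfl⟩).symm
    have hanot : ∀ t ∈ T, ∀ t' ∈ T, t'⁻¹ * (a₀ * t) ∉ Subgroup.normalizer (K : Set X) := by
      intro t ht t' ht' hn
      have hd : t'⁻¹ * (a₀ * t) ∈ D :=
        ⟨(mul_mem (inv_mem (hTA ht')) (mul_mem ha₀ (hTA ht)) : t'⁻¹ * (a₀ * t) ∈ A), hn⟩
      have h2 : t'⁻¹ * t ∈ D' := by
        have h3 : t'⁻¹ * t = t'⁻¹ * (a₀ * t) * a₀ := by
          rw [mul_assoc, mul_assoc a₀, comm_mem hA (hTA ht) ha₀, ← mul_assoc a₀, ha2, one_mul]
        rw [h3]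
        exact mul_mem (le_sup_left (b := Subgroup.zpowers a₀) hd)
          (le_sup_right (a := D) (Subgroup.mem_zpowers a₀))
      have h4 := hTD _ (mul_mem (inv_mem ht') ht) h2
      have h5 : t' = t := inv_mul_eq_one.1 h4
      rw [h5, comm_mem hA ha₀ (hTA ht), inv_mul_cancel_left] at hd
      exact ha₀D hd
    have hwu : Commute w u := by
      refine hδc y w fun t ht => ?_
      have h1 : Commute u (a₀⁻¹ * (t * y * t⁻¹) * a₀) := by
        refine (hδc y _ fun t' ht' => ?_).symm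
        rw [show a₀⁻¹ * (t * y * t⁻¹) * a₀ = (a₀ * t) * y * (a₀ * t)⁻¹ by
          simp only [mul_inv_rev, ha₀', mul_assoc]]
        exact hKK _ _ (hanot t ht t' ht') _ y.2 _ y.2
      have h2 := h1.map (MulAut.conj a₀).toMonoidHom
      simpa [hw, mul_assoc] using h2
    set s := u * w⁻¹ with hs
    have hsa : a₀ * s * a₀⁻¹ = s⁻¹ := by
      rw [hs, hw, show a₀ * (u * (a₀ * u * a₀⁻¹)⁻¹) * a₀⁻¹ =
        (a₀ * u * a₀⁻¹) * ((a₀ * a₀) * u * (a₀ * a₀)⁻¹)⁻¹ by group, ha2, mul_inv_rev (u), inv_inv]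
      group
    have hs1 : s ≠ 1 := by
      intro e
      refine hyc fun v hv => hδinj y v hv ?_
      rw [← hu, (mul_inv_eq_one.1 e : u = w), hw]
      have h1 : Commute u (a₀⁻¹ * v * a₀) := by
        refine (hδc y _ fun t ht => ?_).symm
        have h3 := hKK a₀ t (by simpa using hanot 1 (one_mem T) t ht) v hv y y.2
        rwa [ha₀'] at h3 ⊢
      have h2 := h1.map (MulAut.conj a₀).toMonoidHom
      simpa [mul_assoc] using h2.eq.symm
    have hfixu : ∀ x ∈ A, (∀ t ∈ T, t * x = x * t) → (∀ v ∈ K, x * v * x⁻¹ = v) →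
        x ∈ Subgroup.normalizer (K : Set X) → x * u * x⁻¹ = u := fun x _ hxT hxK hxN =>
      hδeq x hxN hxT y y (hxK y y.2)
    have hbase : ∀ x, (x ∈ D ∨ x ∈ T) → x * s * x⁻¹ = s := by
      intro x hx
      have hxA : x ∈ A := hx.elim (fun h => hDA h) (fun h => hTA h)
      have hxu : x * u * x⁻¹ = u := by
        rcases hx with hx | hx
        · exact hfixu x hxA (fun t ht => comm_mem hA (hTA ht) hxA) (hD0fix x (hDD hx)) hx.2
        · exact conj_eq_of_comm (hδT y x hx)
      have hxw : x * w * x⁻¹ = w := by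
        rw [hw, show x * (a₀ * u * a₀⁻¹) * x⁻¹ = (x * a₀) * u * (x * a₀)⁻¹ by group,
          comm_mem hA hxA ha₀, show a₀ * x * u * (a₀ * x)⁻¹ = a₀ * (x * u * x⁻¹) * a₀⁻¹ by group, hxu]
      rw [hs, show x * (u * w⁻¹) * x⁻¹ = (x * u * x⁻¹) * (x * w * x⁻¹)⁻¹ by group, hxu, hxw]
    refine step_of_good φ hV hφ hS3 hA (r₀ := s) ⟨hs1, ?_, fun x hx => ?_, a₀, ha₀, hsa⟩
    · exact odd_mul hwu.symm.inv_right hua (odd_inv (odd_conj a₀ hua))
    · obtain ⟨d', hd', t, ht, rfl⟩ := hAT x hx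
      have htf := hbase t (Or.inr ht)
      rw [show d' * t * s * (d' * t)⁻¹ = d' * (t * s * t⁻¹) * d'⁻¹ by group, htf]
      have hDn : Subgroup.zpowers a₀ ≤ Subgroup.normalizer (D : Set X) := Subgroup.zpowers_le.2 <|
        Subgroup.mem_normalizer_iff.2 fun z => ⟨fun hz => by
          rwa [conj_eq_of_comm (comm_mem hA ha₀ (hDA hz))], fun hz => by
          have hzA : z ∈ A := by
            have := mul_mem (mul_mem (inv_mem ha₀) (hDA hz)) ha₀
            simpa [mul_assoc] using this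
          rwa [conj_eq_of_comm (comm_mem hA ha₀ hzA)] at hz⟩
      rw [hD', ← SetLike.mem_coe, Subgroup.coe_mul_of_right_le_normalizer_left D _ hDn] at hd'
      obtain ⟨d, hd, _, ⟨j, rfl⟩, rfl⟩ := hd'
      have hdf := hbase d (Or.inl hd)
      rcases Int.even_or_odd j with ⟨i, rfl⟩ | ⟨i, rfl⟩
      · left
        show d * a₀ ^ (i + i) * s * (d * a₀ ^ (i + i))⁻¹ = s
        rw [← two_mul, zpow_mul, zpow_two, ha2, one_zpow, mul_one, hdf]
      · right
        show d * a₀ ^ (2 * i + 1) * s * (d * a₀ ^ (2 * i + 1))⁻¹ = s⁻¹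
        rw [zpow_add, zpow_mul, zpow_two, ha2, one_zpow, one_mul, zpow_one,
          show d * a₀ * s * (d * a₀)⁻¹ = d * (a₀ * s * a₀⁻¹) * d⁻¹ by group, hsa, ← conj_inv, hdf]
  · -- the component is normalised
    obtain ⟨C, hCD, hC0, hDC⟩ := exists_compl (elemAb_le hA hDA) (inf_le_left : D₀ ≤ D)
    obtain ⟨T, hTA, hTD, hAT⟩ := exists_compl hA hDA
    have hTN : ∀ t ∈ T, t ∈ Subgroup.normalizer (K : Set X) → t = 1 := fun t ht htn =>
      hTD t ht ⟨hTA ht, htn⟩
    obtain ⟨δ, hδT, -, hδeq, hδinj⟩ := exists_spread hKc T hTN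
    have hCA : C ≤ A := hCD.trans hDA
    have hdecomp : ∀ x ∈ A, ∃ d ∈ D₀, ∃ c ∈ C, ∃ t ∈ T, x = d * c * t := fun x hx => by
      obtain ⟨d, hd, t, ht, rfl⟩ := hAT x hx
      obtain ⟨e, he, c, hc, rfl⟩ := hDC d hd
      exact ⟨e, he, c, hc, t, ht, rfl⟩
    have hCne : ∃ c ∈ C, c ≠ 1 := by
      by_contra h
      push Not at h
      refine hDD fun x hx => ?_
      obtain ⟨d, hd, c, hc, rfl⟩ := hDC x hx
      rw [h c hc, mul_one]
      exact hd
    have hδD : ∀ x ∈ D, ∀ r r' : K, x * r * x⁻¹ = r' → x * δ r * x⁻¹ = δ r' := fun x hx =>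
      hδeq x hx.2 fun t ht => comm_mem hA (hTA ht) (hDA hx)
    have hδ0 : ∀ d ∈ D₀, ∀ r : K, d * δ r * d⁻¹ = δ r := fun d hd r =>
      hδD d hd.1 r r (hD0fix d hd r r.2)
    have hfaith : ∀ c ∈ C, (∀ y ∈ K, c * y * c⁻¹ = y) → c = 1 := fun c hc h =>
      hC0 c hc ⟨hCD hc, Subgroup.mem_centralizer_iff.2 fun y hy => (comm_of_conj_eq (h y hy)).symm⟩
    -- an element of `K` which is fixed or inverted by `C` gives a step
    have hfin : ∀ r : K, (r : X) ≠ 1 → Odd (orderOf (r : X)) →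
        (∀ c ∈ C, c * r * c⁻¹ = r ∨ c * r * c⁻¹ = (r : X)⁻¹) →
        (∃ c ∈ C, c * r * c⁻¹ = (r : X)⁻¹) → Wit φ A := by
      rintro r hr1 hro hCr ⟨c, hc, hci⟩
      have hne1 : δ r ≠ 1 := fun e => by
        obtain ⟨y, hy, hyr⟩ := hnc c (hCA hc) r r.2 hr1 hro hci
        exact hyr (hδinj r y hy (by rw [e, one_mul, mul_one]))
      have hCδ : ∀ c ∈ C, c * δ r * c⁻¹ = δ r ∨ c * δ r * c⁻¹ = (δ r)⁻¹ := fun c hc => by
        rcases hCr c hc with h | h
        · exact Or.inl (hδD c (hCD hc) r r h)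
        · right
          rw [hδD c (hCD hc) r r⁻¹ (by rw [h]; rfl), map_inv]
      refine step_of_good φ hV hφ hS3 hA (r₀ := δ r) ⟨hne1,
        Odd.of_dvd_nat (by rwa [← Subgroup.orderOf_coe]) (orderOf_map_dvd δ r), fun x hx => ?_,
        c, hCA hc, by rw [hδD c (hCD hc) r r⁻¹ (by rw [hci]; rfl), map_inv]⟩
      obtain ⟨d, hd, c', hc', t, ht, rfl⟩ := hdecomp x hx
      rw [show d * c' * t * δ r * (d * c' * t)⁻¹ = d * (c' * (t * δ r * t⁻¹) * c'⁻¹) * d⁻¹ by group,
        conj_eq_of_comm (hδT r t ht)]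
      rcases hCδ c' hc' with h | h <;> rw [h]
      · exact Or.inl (hδ0 d hd r)
      · right
        rw [← conj_inv, hδ0 d hd r]
    rcases component_model hK hKc with ⟨F, _, _, m, hm, hFc, π, hπ, hker⟩ |
      ⟨F, _, _, n, hn, hFc, π, hπ, hker⟩
    · -- Suzuki
      have hcen : ∀ g : Cfsg.Sz F m, (∀ h, g * h = h * g) → g = 1 := by
        intro g hg
        haveI := Lie.Suzuki.sz_simple hFc hm
        rcases (inferInstance : (Subgroup.center (Cfsg.Sz F m)).Normal).eq_bot_or_eq_top with h | h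
        · exact (Subgroup.eq_bot_iff_forall _).1 h g (Subgroup.mem_center_iff.2 fun y => (hg y).symm)
        · exfalso
          refine qs_center_ne_top hKc.2 (top_le_iff.1 ?_)
          rw [← hKc.2.1.commutator_eq_top, commutator_def, Subgroup.commutator_le]
          intro x _ y _
          rw [← hker, MonoidHom.mem_ker, map_commutatorElement, commutatorElement_eq_one_iff_mul_comm]
          exact Subgroup.mem_center_iff.1 (h ▸ Subgroup.mem_top (π y)) _
      -- inner action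
      have hinner : ∀ c ∈ C, ∃ k : K, ∀ y ∈ K, c * y * c⁻¹ = k * y * (k : X)⁻¹ := by
        intro c hc
        let α : MulAut K := Subgroup.normalizerMonoidHom K ⟨c, (hCD hc).2⟩
        have hmap : (Subgroup.center K).map α.toMonoidHom = Subgroup.center K :=
          Subgroup.characteristic_iff_map_eq.1 inferInstance α
        let e := QuotientGroup.quotientKerEquivOfSurjective π hπ
        have hmap' : π.ker.map α.toMonoidHom = π.ker := by rw [hker]; exact hmap
        let β : MulAut (Cfsg.Sz F m) := e.symm.trans ((QuotientGroup.congr π.ker π.ker α hmap').trans e)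
        have hβ : ∀ y, β (π y) = π (α y) := fun y => by
          have h1 : e.symm (π y) = QuotientGroup.mk y := e.symm_apply_eq.2 rfl
          show e ((QuotientGroup.congr π.ker π.ker α hmap') (e.symm (π y))) = π (α y)
          rw [h1]
          rfl
        have hββ : β * β = 1 := by
          refine MulEquiv.ext fun g => ?_
          obtain ⟨y, rfl⟩ := hπ g
          rw [MulAut.mul_apply, hβ, hβ, MulAut.one_apply]
          refine congrArg π (Subtype.ext ?_)
          show c * (c * y * c⁻¹) * c⁻¹ = y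
          rw [show c * (c * y * c⁻¹) * c⁻¹ = (c * c) * y * (c * c)⁻¹ by group, inv_self hA (hCA hc)]
          group
        obtain ⟨g, hg⟩ := inner_of_invol hFc hm β hββ
        obtain ⟨k, rfl⟩ := hπ g
        refine ⟨k, agree_of_agree_mod_center hKc.2.1 (hCD hc).2 (Subgroup.le_normalizer k.2)
          fun y hy => ?_⟩
        refine cz_of_ker π hker (mul_mem (inv_mem (mul_mem (mul_mem k.2 hy) (inv_mem k.2)))
          (conj_mem_iff (hCD hc).2 hy)) ?_
        show π ((k * ⟨y, hy⟩ * k⁻¹)⁻¹ * α ⟨y, hy⟩) = 1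
        rw [map_mul, ← hβ, hg, map_inv, map_mul, map_mul, map_inv, MulAut.conj_apply, inv_mul_cancel]
      choose! k hk using hinner
      have hk2 : ∀ c ∈ C, π (k c) * π (k c) = 1 := fun c hc => by
        refine hcen _ fun g => ?_
        obtain ⟨y, rfl⟩ := hπ g
        have h2 : (k c : X) * k c * y = y * ((k c : X) * k c) := by
          have h3 : (k c : X) * ((k c : X) * y * (k c : X)⁻¹) * (k c : X)⁻¹ = y := by
            rw [← hk c hc y y.2, ← hk c hc _ (conj_mem_iff (hCD hc).2 y.2),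
              show c * (c * y * c⁻¹) * c⁻¹ = (c * c) * y * (c * c)⁻¹ by group, inv_self hA (hCA hc)]
            group
          refine comm_of_conj_eq ?_
          rw [mul_inv_rev]
          rw [show (k c : X) * k c * y * ((k c : X)⁻¹ * (k c : X)⁻¹) =
            (k c : X) * ((k c : X) * y * (k c : X)⁻¹) * (k c : X)⁻¹ by group]
          exact h3
        rw [← map_mul, ← map_mul, ← map_mul]
        exact congrArg π (Subtype.ext h2)
      have hkuniq : ∀ c ∈ C, ∀ g : K, (∀ y ∈ K, c * y * c⁻¹ = g * y * (g : X)⁻¹) → π g = π (k c) := by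
        intro c hc g hg
        refine (inv_mul_eq_one.1 (hcen ((π (k c))⁻¹ * π g) fun h => ?_)).symm
        obtain ⟨y, rfl⟩ := hπ h
        have h2 : g * y * g⁻¹ = k c * y * (k c)⁻¹ :=
          Subtype.ext ((hg y y.2).symm.trans (hk c hc y y.2))
        have h3 := congrArg π h2
        simp only [map_mul, map_inv] at h3
        calc (π (k c))⁻¹ * π g * π y = (π (k c))⁻¹ * (π g * π y * (π g)⁻¹) * π g := by group
          _ = (π (k c))⁻¹ * (π (k c) * π y * (π (k c))⁻¹) * π g := by rw [h3]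
          _ = π y * ((π (k c))⁻¹ * π g) := by group
      let ψ : C →* Cfsg.Sz F m := MonoidHom.mk' (fun c => π (k c)) fun c c' => by
        rw [← map_mul]
        refine (hkuniq _ (c * c').2 (k c * k c') fun y hy => ?_).symm
        show (c : X) * c' * y * ((c : X) * c')⁻¹ = (k c : X) * k c' * y * ((k c : X) * k c')⁻¹
        rw [show (k c : X) * k c' * y * ((k c : X) * k c')⁻¹ =
          (k c : X) * ((k c' : X) * y * (k c' : X)⁻¹) * (k c : X)⁻¹ by group, ← hk c' c'.2 y hy,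
          ← hk c c.2 _ (conj_mem_iff (hCD c'.2).2 hy)]
        group
      have hψ : Function.Injective ψ := by
        rw [← MonoidHom.ker_eq_bot_iff, Subgroup.eq_bot_iff_forall]
        intro c hc
        refine Subtype.ext (hfaith c c.2 fun y hy => ?_)
        have h1 := cz_of_ker π hker (k c).2 hc
        rw [hk c c.2 y hy, ← h1.2 y hy, mul_inv_cancel_right]
      obtain ⟨c₀, hc₀, hc₀1⟩ := hCne
      obtain ⟨ℓ, rb, hℓ, hℓ2, hrb, hrinv, hbound⟩ := gain_element hFc hm ψ.range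
        (by rintro _ ⟨c, rfl⟩; exact hk2 c c.2) ⟨⟨c₀, hc₀⟩, rfl⟩
        (fun e => hc₀1 (congrArg Subtype.val (hψ (e.trans (map_one ψ).symm))))
      obtain ⟨r0, hr0, hr0o⟩ := odd_lift π hπ (x := rb) (hrb ▸ hℓ.odd_of_ne_two hℓ2)
      have hconj : c₀ * r0 * c₀⁻¹ = ((k c₀ * r0 * (k c₀)⁻¹ : K) : X) := hk c₀ hc₀ r0 r0.2
      obtain ⟨hinv1, hmem1, hodd1, hz1⟩ := inverted_lift (inv_self hA (hCA hc₀)) (hCD hc₀).2 r0.2 hr0o
        (cz_of_ker π hker (mul_mem r0.2 (conj_mem_iff (hCD hc₀).2 r0.2)) (by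
          rw [show (⟨_, _⟩ : K) = r0 * (k c₀ * r0 * (k c₀)⁻¹) from Subtype.ext (congrArg ((r0 : X) * ·) hconj),
            map_mul, map_mul, map_mul, map_inv, hr0]
          show rb * (ψ ⟨c₀, hc₀⟩ * rb * (ψ ⟨c₀, hc₀⟩)⁻¹) = 1
          rw [hrinv, mul_inv_cancel]))
      set r1 : K := ⟨_, hmem1⟩
      have hr1π : π r1 = rb * rb := by
        have h1 : ((r0 * r0)⁻¹ * r1 : K) ∈ π.ker := by
          rw [hker]
          exact Subgroup.mem_center_iff.2 fun y => Subtype.ext (hz1.2 y y.2)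
        rw [MonoidHom.mem_ker, map_mul, map_inv, map_mul, hr0] at h1
        exact (inv_mul_eq_one.1 h1).symm
      haveI : Fact ℓ.Prime := ⟨hℓ⟩
      have hdvd : ℓ ∣ orderOf r1 := by
        have h2 : orderOf (rb * rb) = ℓ := by
          rw [← pow_two, orderOf_pow' _ two_ne_zero, hrb,
            (Nat.coprime_primes hℓ Nat.prime_two).2 hℓ2, Nat.div_one]
        rw [← h2, ← hr1π]
        exact orderOf_map_dvd π r1
      set r2 : K := r1 ^ (orderOf r1 / ℓ) with hr2
      have hr2o : orderOf r2 = ℓ := orderOf_pow_orderOf_div (orderOf_pos r1).ne' hdvd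
      have hr2inv : c₀ * r2 * c₀⁻¹ = (r2 : X)⁻¹ := by
        rw [hr2, SubgroupClass.coe_pow, ← conj_pow, hinv1, inv_pow]
      have hδ2 : orderOf (δ r2) = ℓ := by
        refine orderOf_eq_prime (by rw [← map_pow, ← hr2o, pow_orderOf_eq_one, map_one]) fun e => ?_
        have h2 : (r2 : X) ≠ 1 := fun h => by
          rw [show r2 = 1 from Subtype.ext h, orderOf_one] at hr2o
          exact hℓ.ne_one hr2o.symm
        obtain ⟨y, hy, hyr⟩ := hnc c₀ (hCA hc₀) r2 r2.2 h2
          (by rw [Subgroup.orderOf_coe, hr2o]; exact hℓ.odd_of_ne_two hℓ2) hr2inv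
        exact hyr (hδinj r2 y hy (by rw [e, one_mul, mul_one]))
      let B : Subgroup X := D₀ ⊔ T
      have hB0A : B ≤ A := sup_le (inf_le_left.trans hDA) hTA
      have hBcent : B ≤ Subgroup.centralizer ({δ r2} : Set X) := sup_le
        (fun d hd => Subgroup.mem_centralizer_singleton_iff.2 (comm_of_conj_eq (hδ0 d hd r2)))
        (fun t ht => Subgroup.mem_centralizer_singleton_iff.2 (hδT r2 t ht))
      have hPair : Pair φ B c₀ (δ r2) ℓ :=
        { two := isPGroup_elem (elemAb_le hA hB0A)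
          prime := hℓ
          ne_two := hℓ2
          ord := hδ2
          cent := fun b hb => Subgroup.mem_centralizer_singleton_iff.1 (hBcent hb)
          centA := fun b hb => comm_mem hA (hB0A hb) (hCA hc₀)
          inv := by rw [hδD c₀ (hCD hc₀) r2 r2⁻¹ (by rw [hr2inv]; rfl), map_inv]
          nontriv := fun e => by
            rw [show δ r2 = 1 from hφ (e.trans (map_one φ).symm), orderOf_one] at hδ2
            exact hℓ.ne_one hδ2.symm }
      obtain ⟨d, hd0, hd, hreq, -⟩ := hPair.index_bound hV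
      have hC4 : Nat.card C ^ 4 ≤ 2 ^ d := by
        rw [Nat.card_congr (MonoidHom.ofInjective hψ).toEquiv]
        exact hbound d hd0 hd
      -- counting
      have hsurj : Function.Surjective (fun bc : B × C => (⟨bc.1 * bc.2,
          mul_mem (hB0A bc.1.2) (hCA bc.2.2)⟩ : A)) := by
        rintro ⟨x, hx⟩
        obtain ⟨d, hd, c, hc, t, ht, rfl⟩ := hdecomp x hx
        refine ⟨(⟨d * t, mul_mem (Subgroup.mem_sup_left hd) (Subgroup.mem_sup_right ht)⟩, ⟨c, hc⟩),
          Subtype.ext ?_⟩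
        show d * t * c = d * c * t
        rw [mul_assoc, comm_mem hA (hTA ht) (hCA hc), mul_assoc]
      have hcardA : Nat.card A ≤ Nat.card B * Nat.card C :=
        (Nat.card_le_card_of_surjective _ hsurj).trans_eq (Nat.card_prod _ _)
      have hlt : Nat.card B < Nat.card A := by
        refine lt_of_le_of_ne (Subgroup.card_le_of_le hB0A) fun e => ?_
        have h1 : c₀ ∈ B := (Subgroup.eq_of_le_of_card_ge hB0A e.ge).symm ▸ hCA hc₀
        have h2 : c₀ * δ r2 * c₀⁻¹ = δ r2 :=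
          conj_eq_of_comm (Subgroup.mem_centralizer_singleton_iff.1 (hBcent h1))
        exact inverted_ne_fixed (fun h => by rw [h, orderOf_one] at hδ2; exact hℓ.ne_one hδ2.symm)
          (hδ2 ▸ hℓ.odd_of_ne_two hℓ2) hPair.inv h2
      refine ⟨B, c₀, δ r2, ℓ, Nat.card C, hB0A, hCA hc₀, hlt, hPair, hcardA, fun j hj => ?_⟩
      refine (Nat.pow_le_pow_iff_left two_ne_zero).1 ?_
      rw [← pow_mul]
      exact hC4.trans (hreq ▸ hj)
    · -- `L₂`
      by_cases hbig : Nat.card C ≤ 2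
      · obtain ⟨c₀, hc₀, hc₀1⟩ := hCne
        obtain ⟨r, hrK, hr1, hro, hri⟩ := exists_inverted_component hKc (inv_self hA (hCA hc₀))
          (hCD hc₀).2 (fun h => hc₀1 (hfaith c₀ hc₀ h))
        refine hfin ⟨r, hrK⟩ hr1 hro (fun c hc => ?_) ⟨c₀, hc₀, hri⟩
        have hz : Subgroup.zpowers c₀ = C := by
          refine Subgroup.eq_of_le_of_card_ge (Subgroup.zpowers_le.2 hc₀) (hbig.trans ?_)
          rw [Nat.card_zpowers, orderOf_eq_prime (hA.2 c₀ (hCA hc₀)) hc₀1]
        rw [← hz] at hc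
        obtain ⟨j, rfl⟩ := hc
        rcases Int.even_or_odd j with ⟨i, rfl⟩ | ⟨i, rfl⟩
        · left
          show c₀ ^ (i + i) * r * (c₀ ^ (i + i))⁻¹ = r
          rw [← two_mul, zpow_mul, zpow_two, inv_self hA (hCA hc₀), one_zpow]
          group
        · right
          show c₀ ^ (2 * i + 1) * r * (c₀ ^ (2 * i + 1))⁻¹ = r⁻¹
          rw [zpow_add, zpow_mul, zpow_two, inv_self hA (hCA hc₀), one_zpow, one_mul, zpow_one, hri]
      push Not at hbig
      let e := QuotientGroup.quotientKerEquivOfSurjective π hπ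
      let α : C → MulAut K := fun c => Subgroup.normalizerMonoidHom K ⟨c, (hCD c.2).2⟩
      have hmap : ∀ c, π.ker.map (α c).toMonoidHom = π.ker := fun c => by
        rw [hker]; exact Subgroup.characteristic_iff_map_eq.1 inferInstance (α c)
      let β : C → MulAut (Matrix.ProjectiveSpecialLinearGroup (Fin 2) F) := fun c =>
        e.symm.trans ((QuotientGroup.congr π.ker π.ker (α c) (hmap c)).trans e)
      have hβ : ∀ (c : C) (y : K), β c (π y) = π (α c y) := fun c y => by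
        have h1 : e.symm (π y) = QuotientGroup.mk y := e.symm_apply_eq.2 rfl
        show e ((QuotientGroup.congr π.ker π.ker (α c) (hmap c)) (e.symm (π y))) = π (α c y)
        rw [h1]
        rfl
      let ψ : C →* MulAut (Matrix.ProjectiveSpecialLinearGroup (Fin 2) F) := MonoidHom.mk' β fun c c' => by
        ext g
        obtain ⟨y, rfl⟩ := hπ g
        rw [MulAut.mul_apply, hβ, hβ, hβ]
        congr 1
        apply Subtype.ext
        show (c : X) * c' * y * ((c : X) * c')⁻¹ = (c : X) * ((c' : X) * y * (c' : X)⁻¹) * (c : X)⁻¹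
        group
      have hψ : Function.Injective ψ := by
        rw [← MonoidHom.ker_eq_bot_iff, Subgroup.eq_bot_iff_forall]
        intro c hc
        refine Subtype.ext (hfaith c c.2 fun y hy => ?_)
        have h1 := agree_of_agree_mod_center (b := (1 : X)) hKc.2.1 (hCD c.2).2 (one_mem _)
          (fun y hy => cz_of_ker π hker (mul_mem (inv_mem (by simpa using hy)) (conj_mem_iff (hCD c.2).2 hy)) (by
            have h2 : ψ c (π ⟨y, hy⟩) = π ⟨y, hy⟩ := by rw [MonoidHom.mem_ker.1 hc, MulAut.one_apply]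
            rw [show ψ c (π ⟨y, hy⟩) = β c (π ⟨y, hy⟩) from rfl, hβ] at h2
            rw [show (⟨_, _⟩ : K) = (⟨y, hy⟩)⁻¹ * α c ⟨y, hy⟩ from Subtype.ext (by simp [α]), map_mul,
              map_inv, h2, inv_mul_cancel])) y hy
        simpa using h1
      obtain ⟨kb, rb, cb, ⟨⟨b, hb⟩, hbψ⟩, hb1, ⟨⟨c, hc⟩, hcψ⟩, hrb1, hrbo, hkr, hcr, hall⟩ :=
        ltwo_gain hFc hn ψ.range (by
          rintro _ ⟨x, rfl⟩
          rw [← map_mul, show x * x = 1 from Subtype.ext (inv_self hA (hCA x.2)), map_one])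
          (by
            rintro _ ⟨x, rfl⟩ _ ⟨y, rfl⟩
            rw [← map_mul, ← map_mul, show x * y = y * x from Subtype.ext (comm_mem hA (hCA x.2) (hCA y.2))])
          (by rwa [← Nat.card_congr (MonoidHom.ofInjective hψ).toEquiv])
      obtain ⟨kk, rfl⟩ := hπ kb
      have hbk : ∀ y ∈ K, b * y * b⁻¹ = kk * y * (kk : X)⁻¹ :=
        agree_of_agree_mod_center hKc.2.1 (hCD hb).2 (Subgroup.le_normalizer kk.2) fun y hy =>
          cz_of_ker π hker (mul_mem (inv_mem (mul_mem (mul_mem kk.2 hy) (inv_mem kk.2)))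
            (conj_mem_iff (hCD hb).2 hy)) (by
            have h2 : π (α ⟨b, hb⟩ ⟨y, hy⟩) = π kk * π ⟨y, hy⟩ * (π kk)⁻¹ := by
              rw [← hβ, show β ⟨b, hb⟩ = MulAut.conj (π kk) from hbψ, MulAut.conj_apply]
            show π ((kk * ⟨y, hy⟩ * kk⁻¹)⁻¹ * α ⟨b, hb⟩ ⟨y, hy⟩) = 1
            rw [map_mul, h2, map_inv, map_mul, map_mul, map_inv, inv_mul_cancel])
      obtain ⟨r0, hr0, hr0o⟩ := odd_lift π hπ hrbo
      have hbfix : b * r0 * b⁻¹ = r0 := fixed_lift (inv_self hA (hCA hb)) kk.2 hbk r0.2 hr0o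
        (cz_of_ker π hker (mul_mem (inv_mem r0.2) (conj_mem_iff (hCD hb).2 r0.2)) (by
          rw [show (⟨_, _⟩ : K) = r0⁻¹ * (kk * r0 * kk⁻¹) from Subtype.ext (congrArg ((r0 : X)⁻¹ * ·) (hbk r0 r0.2)),
            map_mul, map_mul, map_mul, map_inv, map_inv, hr0, hkr, inv_mul_cancel]))
      obtain ⟨hinv1, hmem1, hodd1, hz1⟩ := inverted_lift (inv_self hA (hCA hc)) (hCD hc).2 r0.2 hr0o
        (cz_of_ker π hker (mul_mem r0.2 (conj_mem_iff (hCD hc).2 r0.2)) (by
          rw [show (⟨_, _⟩ : K) = r0 * α ⟨c, hc⟩ r0 from Subtype.ext (by simp [α]), map_mul, ← hβ,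
            show β ⟨c, hc⟩ = cb from hcψ, hr0, hcr, mul_inv_cancel]))
      have hne : (r0 : X) * (c * r0 * c⁻¹)⁻¹ ≠ 1 := fun e0 => by
        have h1 : ((r0 * r0)⁻¹ * (1 : K)) ∈ π.ker := by
          rw [hker]
          refine Subgroup.mem_center_iff.2 fun y => Subtype.ext ?_
          have := hz1.2 y y.2
          rw [e0] at this
          exact this
        rw [MonoidHom.mem_ker, map_mul, map_one, mul_one, map_inv, map_mul, hr0, inv_eq_one] at h1
        rcases (Nat.dvd_prime Nat.prime_two).1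
          (orderOf_dvd_of_pow_eq_one (show rb ^ 2 = 1 by rw [pow_two, h1])) with e | e
        · exact hrb1 (orderOf_eq_one_iff.1 e)
        · rw [e] at hrbo; exact absurd hrbo (by decide)
      refine hfin ⟨_, hmem1⟩ hne hodd1 (fun x hx => ?_) ⟨c, hc, hinv1⟩
      have hbr : b * ((r0 : X) * (c * r0 * c⁻¹)⁻¹) * b⁻¹ = r0 * (c * r0 * c⁻¹)⁻¹ := by
        rw [show b * ((r0 : X) * (c * r0 * c⁻¹)⁻¹) * b⁻¹ =
          (b * r0 * b⁻¹) * ((b * c) * r0 * (b * c)⁻¹)⁻¹ by group, comm_mem hA (hCA hb) (hCA hc),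
          show c * b * (r0 : X) * (c * b)⁻¹ = c * (b * r0 * b⁻¹) * c⁻¹ by group, hbfix]
      rcases hall (ψ ⟨x, hx⟩) ⟨_, rfl⟩ with h | h | h | h
      · left
        have h' : x = 1 := congrArg Subtype.val (hψ (h.trans (map_one ψ).symm))
        simp [h']
      · left
        rw [show x = b from congrArg Subtype.val (hψ (h.trans hbψ.symm))]
        exact hbr
      · right
        rw [show x = c from congrArg Subtype.val (hψ (h.trans hcψ.symm))]
        exact hinv1
      · right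
        rw [show x = c * b from congrArg Subtype.val (hψ (a₂ := ⟨c, hc⟩ * ⟨b, hb⟩)
          (h.trans (by rw [map_mul, hbψ, hcψ])))]
        show c * b * ((r0 : X) * (c * r0 * c⁻¹)⁻¹) * (c * b)⁻¹ = _
        rw [show c * b * ((r0 : X) * (c * r0 * c⁻¹)⁻¹) * (c * b)⁻¹ =
          c * (b * ((r0 : X) * (c * r0 * c⁻¹)⁻¹) * b⁻¹) * c⁻¹ by group, hbr]
        exact hinv1

include hV hφ hS3 in
theorem step (hO : Cfsg.pCore 2 X = ⊥)
    (hK : Cfsg.IsCompositionKGroupWith Cfsg.IsSuzukiOrPSL2OddPowerThree X)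
    {A : Subgroup X} (hA : Cfsg.IsElementaryAbelian 2 A) (hne : A ≠ ⊥) : Step φ A := by
  haveI : Fact (Nat.Prime 2) := ⟨Nat.prime_two⟩
  obtain ⟨B, c, r, ℓ, n, hBA, hc, hlt, hPair, hcard, hn⟩ := exists_wit φ hV hφ hS3 hO hK hA hne
  refine ⟨B, hBA, hlt, ?_⟩
  obtain ⟨d, -, -, hreq, hsq⟩ := hPair.index_bound hV
  set W := fixV φ (B : Set X)
  set C := fixV φ ((B : Set X) ∪ {c})
  have hCW : C ≤ W := fixV_anti φ Set.subset_union_left
  have hmul : C.relIndex W * Nat.card C = Nat.card W := by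
    rw [mul_comm, ← Nat.card_congr (Subgroup.subgroupOfEquivOfLe hCW).toEquiv]
    exact Subgroup.card_mul_index (C.subgroupOf W)
  obtain ⟨k, hk⟩ := IsPGroup.iff_card.1 ((two_group hV).to_subgroup W)
  obtain ⟨j, -, hj⟩ := (Nat.dvd_prime_pow Nat.prime_two).1
    (show C.relIndex W ∣ 2 ^ k by rw [← hk, ← hmul]; exact dvd_mul_right _ _)
  have hn2 : n ^ 2 ≤ C.relIndex W := hj ▸ hn j (by rw [hreq, ← hj]; exact hsq)
  have hsub : Nat.card ↥(fixV φ (A : Set X)) ≤ Nat.card C :=
    Subgroup.card_le_of_le (fixV_anti φ (by rintro x (hx | rfl); exacts [hBA hx, hc]))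
  calc Nat.card A ^ 2 * Nat.card ↥(fixV φ (A : Set X))
      ≤ (Nat.card B * n) ^ 2 * Nat.card C := Nat.mul_le_mul (Nat.pow_le_pow_left hcard 2) hsub
    _ = Nat.card B ^ 2 * (n ^ 2 * Nat.card C) := by ring
    _ ≤ Nat.card B ^ 2 * (C.relIndex W * Nat.card C) :=
        Nat.mul_le_mul_left _ (Nat.mul_le_mul_right _ hn2)
    _ = _ := by rw [hmul]

include hV hφ hS3 in
theorem bound (hO : Cfsg.pCore 2 X = ⊥)
    (hK : Cfsg.IsCompositionKGroupWith Cfsg.IsSuzukiOrPSL2OddPowerThree X) :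
    ∀ A : Subgroup X, Cfsg.IsElementaryAbelian 2 A →
      Nat.card A ^ 2 * Nat.card ↥(fixV φ (A : Set X)) ≤ Nat.card V := by
  intro A
  induction hn : Nat.card A using Nat.strong_induction_on generalizing A with
  | _ n ih =>
    intro hA
    by_cases hne : A = ⊥
    · subst hne
      rw [← hn, Subgroup.card_bot, one_pow, one_mul]
      exact Subgroup.card_le_card_group _
    obtain ⟨B, hBA, hlt, hle⟩ := step φ hV hφ hS3 hO hK hA hne
    rw [← hn]
    exact hle.trans (ih _ (hn ▸ hlt) B rfl (elemAb_le hA hBA))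

end Cfsg.Agent.Solv.OffGain
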