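import Mathlib
import Cfsg.Prelude.Def_Transfer

/-!
# Fixed points of a 2-group on an elementary abelian 2-group next to an inverted element of odd order
-/

set_option autoImplicit false
set_option linter.unusedSectionVars false

namespace Cfsg.Agent.Solv.OffGain

variable {X V : Type*} [Group X] [Finite X] [CommGroup V] [Finite V] (φ : X →* MulAut V)

/-- The common fixed points of a set of elements. -/
def fixV (B : Set X) : Subgroup V where
  carrier := {v | ∀ b ∈ B, φ b v = v}
  one_mem' := fun b _ => map_one (φ b)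
  mul_mem' := fun {u w} hu hw b hb => by rw [map_mul, hu b hb, hw b hb]
  inv_mem' := fun {u} hu b hb => by rw [map_inv, hu b hb]

theorem mem_fixV {B : Set X} {v : V} : v ∈ fixV φ B ↔ ∀ b ∈ B, φ b v = v := Iff.rfl

theorem fixV_anti {B C : Set X} (h : B ⊆ C) : fixV φ C ≤ fixV φ B :=
  fun _ hv b hb => hv b (h hb)

theorem act_act (g h : X) (v : V) : φ g (φ h v) = φ (g * h) v := by rw [map_mul]; rfl

theorem fix_pow {g : X} {v : V} (h : φ g v = v) : ∀ k : ℕ, φ (g ^ k) v = v
  | 0 => by simp
  | k + 1 => by rw [pow_succ, ← act_act, h, fix_pow h k]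

theorem commute_mem {B : Set X} {g : X} (hg : ∀ b ∈ B, b * g = g * b) {v : V} (hv : v ∈ fixV φ B) :
    φ g v ∈ fixV φ B := fun b hb => by rw [act_act, hg b hb, ← act_act, hv b hb]

variable (hV : ∀ v : V, v * v = 1)
include hV

theorem two_group : IsPGroup 2 V := fun v => ⟨1, by rw [pow_one, pow_two]; exact hV v⟩

/-- An element of odd order commuting with a 2-group and fixing all its fixed points is trivial. -/
theorem trivial_of_fixed {B : Subgroup X} (hB : IsPGroup 2 B) {r : X} (hr : Odd (orderOf r))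
    (hc : ∀ b ∈ B, b * r = r * b) (hfix : ∀ v ∈ fixV φ (B : Set X), φ r v = v) : φ r = 1 := by
  classical
  haveI : Fact (Nat.Prime 2) := ⟨Nat.prime_two⟩
  let P : V → V := fun v => ∏ i ∈ Finset.range (orderOf r), φ (r ^ i) v
  have hmul : ∀ u w, P (u * w) = P u * P w := fun u w => by
    simp only [P, map_mul, Finset.prod_mul_distrib]
  have hone : P 1 = 1 := by simp [P]
  let Ph : V →* V := { toFun := P, map_one' := hone, map_mul' := hmul }
  have hPr : ∀ v, P (φ r v) = P v := fun v => by
    have h := Finset.prod_range_succ (fun i => φ (r ^ i) v) (orderOf r)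
    rw [Finset.prod_range_succ', pow_zero, pow_orderOf_eq_one] at h
    have e : P (φ r v) = ∏ k ∈ Finset.range (orderOf r), φ (r ^ (k + 1)) v :=
      Finset.prod_congr rfl fun k _ => by rw [act_act, ← pow_succ]
    rw [e]
    exact mul_right_cancel h
  have hrP : ∀ v, φ r v = v → P v = v := fun v hv => by
    have e : P v = v ^ orderOf r := by
      simp only [P]
      rw [Finset.prod_congr rfl fun i _ => fix_pow φ hv i, Finset.prod_const, Finset.card_range]
    obtain ⟨j, hj⟩ := hr
    rw [e, hj, pow_succ, pow_mul, pow_two, hV, one_pow, one_mul]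
  have hPB : ∀ b ∈ B, ∀ v, φ b (P v) = P (φ b v) := fun b hb v => by
    simp only [P, map_prod]
    refine Finset.prod_congr rfl fun i _ => ?_
    rw [act_act, act_act, ((show Commute b r from hc b hb).pow_right i).eq]
  -- the kernel of the average is trivial
  have hker : ∀ v, P v = 1 → v = 1 := by
    by_contra hne
    push Not at hne
    obtain ⟨v, hv, hv1⟩ := hne
    let W : Subgroup V := Ph.ker
    letI : MulAction B W :=
      { smul := fun b w => ⟨φ (b : X) w, by
          show P (φ (b : X) w) = 1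
          rw [← hPB b b.2, show P w = 1 from w.2, map_one]⟩
        one_smul := fun w => Subtype.ext (show φ ((1 : B) : X) w = w by simp)
        mul_smul := fun b c w => Subtype.ext (show φ ((b * c : B) : X) w = φ (b : X) (φ (c : X) w) by
          rw [act_act]; rfl) }
    haveI : Nontrivial W := ⟨⟨v, hv⟩, 1, fun h => hv1 (congrArg Subtype.val h)⟩
    obtain ⟨n, hn⟩ := IsPGroup.iff_card.1 ((two_group hV).to_subgroup W)
    have hn0 : n ≠ 0 := fun h => by
      rw [h, pow_zero, Nat.card_eq_one_iff_unique] at hn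
      exact not_subsingleton W hn.1
    obtain ⟨w, hw, hw1⟩ := hB.exists_fixed_point_of_prime_dvd_card_of_fixed_point (α := W)
      (by rw [hn]; exact dvd_pow_self 2 hn0) (a := (1 : W))
      (fun b => Subtype.ext (map_one (φ (b : X))))
    have hwfix : (w : V) ∈ fixV φ (B : Set X) := fun b hb =>
      congrArg Subtype.val (hw ⟨b, hb⟩)
    have h1 := hrP w (hfix w hwfix)
    rw [show P w = 1 from w.2] at h1
    exact hw1 (Subtype.ext h1)
  ext v
  refine (mul_inv_eq_one.1 (hker _ ?_) : φ r v = v)
  show Ph (φ r v * v⁻¹) = 1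
  rw [map_mul, map_inv, mul_inv_eq_one]
  exact hPr v

/-- The data of an element inverted by `a` acting nontrivially on the fixed points of `B`. -/
structure Pair (B : Subgroup X) (a r : X) (ℓ : ℕ) : Prop where
  two : IsPGroup 2 B
  prime : ℓ.Prime
  ne_two : ℓ ≠ 2
  ord : orderOf r = ℓ
  cent : ∀ b ∈ B, b * r = r * b
  centA : ∀ b ∈ B, b * a = a * b
  inv : a * r * a⁻¹ = r⁻¹
  nontriv : φ r ≠ 1

variable {φ} in
/-- The index of the fixed points of `a`, against those of `r`. -/
theorem Pair.index_bound {B : Subgroup X} {a r : X} {ℓ : ℕ} (h : Pair φ B a r ℓ) :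
    ∃ d : ℕ, 0 < d ∧ ℓ ∣ 2 ^ d - 1 ∧
      (fixV φ ((B : Set X) ∪ {r})).relIndex (fixV φ (B : Set X)) = 2 ^ d ∧
      2 ^ d ≤ ((fixV φ ((B : Set X) ∪ {a})).relIndex (fixV φ (B : Set X))) ^ 2 := by
  classical
  haveI : Fact (Nat.Prime 2) := ⟨Nat.prime_two⟩
  haveI : Fact ℓ.Prime := ⟨h.prime⟩
  set W := fixV φ (B : Set X) with hW
  set F := fixV φ ((B : Set X) ∪ {r}) with hF
  have hFW : F ≤ W := fixV_anti φ Set.subset_union_left
  have hodd : Odd (orderOf r) := h.ord ▸ h.prime.odd_of_ne_two h.ne_two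
  have hne : F ≠ W := fun e => h.nontriv (trivial_of_fixed φ hV h.two hodd h.cent fun v hv => by
    rw [← hW, ← e] at hv
    exact hv r (Or.inr rfl))
  -- the index of the fixed points of `r`
  obtain ⟨w, hw⟩ := IsPGroup.iff_card.1 ((two_group hV).to_subgroup W)
  obtain ⟨f, hf⟩ := IsPGroup.iff_card.1 ((two_group hV).to_subgroup F)
  have hmul : F.relIndex W * Nat.card F = Nat.card W := by
    rw [mul_comm, ← Nat.card_congr (Subgroup.subgroupOfEquivOfLe hFW).toEquiv]
    exact Subgroup.card_mul_index (F.subgroupOf W)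
  have hfw : f < w := by
    have hle := Subgroup.card_le_of_le hFW
    rw [hf, hw] at hle
    rcases lt_or_eq_of_le ((Nat.pow_le_pow_iff_right (by norm_num)).1 hle) with h1 | h1
    · exact h1
    · exact absurd (Subgroup.eq_of_le_of_card_ge hFW (by rw [hf, hw, h1])) hne
  have hidx : F.relIndex W = 2 ^ (w - f) := by
    rw [hf, hw, ← Nat.sub_add_cancel hfw.le, pow_add] at hmul
    exact Nat.eq_of_mul_eq_mul_right (by positivity) hmul
  refine ⟨w - f, by omega, ?_, hidx, ?_⟩
  · -- congruence modulo the order of `r`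
    let R := Subgroup.zpowers r
    have hRW : ∀ g ∈ R, ∀ b ∈ B, b * g = g * b := fun g hg b hb => by
      obtain ⟨k, rfl⟩ := hg
      exact ((show Commute b r from h.cent b hb).zpow_right k).eq
    letI : MulAction R W :=
      { smul := fun g v => ⟨φ (g : X) v, commute_mem φ (hRW g g.2) v.2⟩
        one_smul := fun v => Subtype.ext (show φ ((1 : R) : X) v = v by simp)
        mul_smul := fun g g' v => Subtype.ext
          (show φ ((g * g' : R) : X) v = φ (g : X) (φ (g' : X) v) by rw [act_act]; rfl) }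
    have hR : IsPGroup ℓ R := IsPGroup.of_card (n := 1) (by rw [Nat.card_zpowers, h.ord, pow_one])
    have hmod := hR.card_modEq_card_fixedPoints W
    have hfixeq : Nat.card (MulAction.fixedPoints R W) = Nat.card F := by
      refine Nat.card_congr
        { toFun := fun v => ⟨v.1.1, ?_⟩
          invFun := fun v => ⟨⟨v.1, hFW v.2⟩, ?_⟩
          left_inv := fun v => rfl
          right_inv := fun v => rfl }
      · rintro b (hb | hb)
        · exact v.1.2 b hb
        · rw [Set.mem_singleton_iff.1 hb]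
          exact congrArg Subtype.val (v.2 ⟨r, Subgroup.mem_zpowers r⟩)
      · rintro ⟨g, hg⟩
        refine Subtype.ext ?_
        obtain ⟨n, rfl⟩ := mem_powers_iff_mem_zpowers.2 hg
        exact fix_pow φ (v.2 r (Or.inr rfl)) n
    rw [hfixeq, hf, hw] at hmod
    have h1 := (Nat.modEq_iff_dvd' (Nat.pow_le_pow_right (by norm_num) hfw.le)).1 hmod.symm
    rw [← Nat.sub_add_cancel hfw.le, pow_add, ← Nat.sub_one_mul] at h1
    refine ((h.prime.dvd_mul).1 h1).resolve_right fun h2 => h.ne_two ?_
    exact (Nat.prime_dvd_prime_iff_eq h.prime Nat.prime_two).1 (h.prime.dvd_of_dvd_pow h2)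
  · -- two conjugates of the fixed points of `a` meet in those of `r`
    rw [← hidx]
    set C := fixV φ ((B : Set X) ∪ {a}) with hC
    let ψ : V ≃* V := φ r
    have hmem : ∀ v, v ∈ C.map ψ.toMonoidHom ↔ φ r⁻¹ v ∈ C := by
      intro v
      constructor
      · rintro ⟨u, hu, rfl⟩
        show φ r⁻¹ (φ r u) ∈ C
        rw [act_act, inv_mul_cancel, map_one]
        exact hu
      · intro hv
        exact ⟨_, hv, show φ r (φ r⁻¹ v) = v by rw [act_act, mul_inv_cancel, map_one]; rfl⟩
    have hWmap : W.map ψ.toMonoidHom = W := by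
      refine le_antisymm ?_ fun v hv => ⟨φ r⁻¹ v, commute_mem φ
        (fun b hb => (show Commute b r from h.cent b hb).inv_right.eq) hv,
        show φ r (φ r⁻¹ v) = v by rw [act_act, mul_inv_cancel, map_one]; rfl⟩
      rintro _ ⟨u, hu, rfl⟩
      exact commute_mem φ h.cent hu
    have hle : C ⊓ C.map ψ.toMonoidHom ≤ F := by
      intro v hv
      have h1 : φ a v = v := hv.1 a (Or.inr rfl)
      have h2 : φ a (φ r⁻¹ v) = φ r⁻¹ v := (hmem v).1 hv.2 a (Or.inr rfl)
      have e : a * r⁻¹ = r * a := by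
        have h3 : a * r⁻¹ * a⁻¹ = r := by rw [← conj_inv, h.inv, inv_inv]
        calc a * r⁻¹ = a * r⁻¹ * a⁻¹ * a := by group
          _ = r * a := by rw [h3]
      rw [act_act, e, ← act_act, h1] at h2
      have hr2 : φ (r ^ 2) v = v := by
        rw [pow_two, ← act_act, h2, act_act, mul_inv_cancel, map_one]
        rfl
      obtain ⟨j, hj⟩ := hodd
      have hr1 : φ r v = v := by
        have h4 : φ ((r ^ 2) ^ (j + 1)) v = v := fix_pow φ hr2 _
        rwa [← pow_mul, show 2 * (j + 1) = orderOf r + 1 by omega, pow_succ, pow_orderOf_eq_one,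
          one_mul] at h4
      rintro b (hb | hb)
      · exact hv.1 b (Or.inl hb)
      · rw [Set.mem_singleton_iff.1 hb]
        exact hr1
    have hrel : (C.map ψ.toMonoidHom).relIndex W = C.relIndex W := by
      conv_lhs => rw [← hWmap]
      exact Subgroup.relIndex_map_map_of_injective C W ψ.injective
    calc F.relIndex W ≤ (C ⊓ C.map ψ.toMonoidHom).relIndex W :=
          Nat.le_of_dvd (Nat.pos_of_ne_zero Subgroup.index_ne_zero_of_finite)
            (Subgroup.relIndex_dvd_of_le_left W hle)
      _ ≤ C.relIndex W * (C.map ψ.toMonoidHom).relIndex W := Subgroup.relIndex_inf_le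
      _ = _ := by rw [hrel, pow_two]

variable {φ} in
/-- The index of the fixed points of `r` is at least eight. -/
theorem Pair.eight_le {B : Subgroup X} {a r : X} {ℓ : ℕ} (h : Pair φ B a r ℓ) (h3 : ℓ ≠ 3) :
    8 ≤ (fixV φ ((B : Set X) ∪ {r})).relIndex (fixV φ (B : Set X)) := by
  obtain ⟨d, hd0, hd, hr, -⟩ := h.index_bound hV
  rw [hr]
  have h5 : 5 ≤ ℓ := by
    have := h.prime.two_le
    have := h.ne_two
    rcases Nat.lt_or_ge ℓ 5 with hl | hl
    · interval_cases ℓ <;> first | omega | exact absurd h.prime (by norm_num)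
    · exact hl
  refine (show 8 = 2 ^ 3 by norm_num).le.trans (Nat.pow_le_pow_right (by norm_num) ?_)
  by_contra hlt
  have hd1 := Nat.le_of_dvd (by
    have : 2 ^ 1 ≤ 2 ^ d := Nat.pow_le_pow_right (by norm_num) hd0
    omega) hd
  have : 2 ^ d ≤ 2 ^ 2 := Nat.pow_le_pow_right (by norm_num) (by omega)
  omega

variable {φ} in
/-- The fixed points drop by a factor four next to an element of prime order above three. -/
theorem Pair.four_mul {B : Subgroup X} {a r : X} {ℓ : ℕ} (h : Pair φ B a r ℓ) (h3 : ℓ ≠ 3) :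
    4 * Nat.card ↥(fixV φ ((B : Set X) ∪ {a})) ≤ Nat.card ↥(fixV φ (B : Set X)) := by
  classical
  haveI : Fact (Nat.Prime 2) := ⟨Nat.prime_two⟩
  obtain ⟨d, hd0, hd, -, hsq⟩ := h.index_bound hV
  set C := fixV φ ((B : Set X) ∪ {a})
  set W := fixV φ (B : Set X)
  have hCW : C ≤ W := fixV_anti φ Set.subset_union_left
  have hmul : C.relIndex W * Nat.card C = Nat.card W := by
    rw [mul_comm, ← Nat.card_congr (Subgroup.subgroupOfEquivOfLe hCW).toEquiv]
    exact Subgroup.card_mul_index (C.subgroupOf W)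
  obtain ⟨k, -, hk⟩ := (Nat.dvd_prime_pow Nat.prime_two).1
    (show C.relIndex W ∣ 2 ^ (IsPGroup.iff_card.1 ((two_group hV).to_subgroup W)).choose by
      rw [← (IsPGroup.iff_card.1 ((two_group hV).to_subgroup W)).choose_spec, ← hmul]
      exact dvd_mul_right _ _)
  rw [hk] at hsq hmul
  have h5 : 5 ≤ ℓ := by
    have := h.prime.two_le
    have := h.ne_two
    rcases Nat.lt_or_ge ℓ 5 with hl | hl
    · interval_cases ℓ <;> first | omega | exact absurd h.prime (by norm_num)
    · exact hl
  have h6 : 2 ^ 3 ≤ 2 ^ d := by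
    refine Nat.pow_le_pow_right (by norm_num) ?_
    by_contra hlt
    have hd1 := Nat.le_of_dvd (by
      have : 2 ^ 1 ≤ 2 ^ d := Nat.pow_le_pow_right (by norm_num) hd0
      omega) hd
    have : 2 ^ d ≤ 2 ^ 2 := Nat.pow_le_pow_right (by norm_num) (by omega)
    omega
  have hk2 : 2 ≤ k := by
    by_contra hlt
    have : (2 ^ k) ^ 2 ≤ (2 ^ 1) ^ 2 :=
      Nat.pow_le_pow_left (Nat.pow_le_pow_right (by norm_num) (by omega)) 2
    omega
  calc 4 * Nat.card C ≤ 2 ^ k * Nat.card C :=
        Nat.mul_le_mul_right _ (le_trans (by norm_num) (Nat.pow_le_pow_right (by norm_num) hk2))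
    _ = _ := hmul

end Cfsg.Agent.Solv.OffGain
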